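import Groth.Agent.PencilLib.Main
import Groth.Agent.AffineDim.Covering

/-!
# Generic base loci of pencils through a transversal form
-/

set_option autoImplicit false
set_option maxHeartbeats 1000000
set_option backward.isDefEq.respectTransparency false
set_option backward.isDefEq.respectTransparency.types false
set_option linter.style.haveILetI false
universe u
open CategoryTheory CategoryTheory.Limits AlgebraicGeometry TopologicalSpace IsLocalRing KaehlerDifferential Module
open Groth.Agent.AmpleEmb Groth.Agent.BertiniProjLib Groth.Agent.LefDualLib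

noncomputable section

namespace Groth.Agent.PencilLib

variable {k : Type u} [Field k]

section Ring

variable {A : Type u} [CommRing A] [Algebra k A] [Algebra.FiniteType k A]

theorem ringKrullDim_minimal_cut (k : Type u) [Field k] {A : Type u} [CommRing A] [Algebra k A] [Algebra.FiniteType k A]
    [IsDomain A] {n : ℕ} (hn : 1 ≤ n) (hA : ringKrullDim A = n) {a : A} (ha : a ≠ 0) :
    ∀ P ∈ minimalPrimes (A ⧸ Ideal.span {a}), ringKrullDim ((A ⧸ Ideal.span {a}) ⧸ P) = (n - 1 : ℕ) := by
  intro P hP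
  haveI : IsNoetherianRing A := Algebra.FiniteType.isNoetherianRing k A
  haveI : P.IsPrime := hP.1.1
  let mk := Ideal.Quotient.mk (Ideal.span {a})
  have hP₀ : P.comap mk ∈ (Ideal.span {a}).minimalPrimes := by
    rw [Ideal.minimalPrimes_eq_comap]
    exact ⟨P, hP, rfl⟩
  haveI : (P.comap mk).IsPrime := Ideal.IsPrime.comap _
  have hne : P.comap mk ≠ ⊥ := fun h => ha (by
    have := hP₀.1.2 (Ideal.mem_span_singleton_self a)
    rwa [h] at this)
  have hht : (P.comap mk).height ≤ 1 := Ideal.height_le_one_of_isPrincipal_of_mem_minimalPrimes _ _ hP₀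
  have key := AffineDim.ringKrullDim_quotient_add_one (k := k) hne fun Q hQ hlt => by
    by_contra hQ0
    have h1 := Ideal.height_strict_mono_of_isPrime hlt
    have h2 : (0 : ℕ∞) < Q.height := by
      rw [← Ideal.height_bot (R := A)]
      exact Ideal.height_strict_mono_of_isPrime (bot_lt_iff_ne_bot.2 hQ0)
    have h3 := Order.add_one_le_of_lt h2
    rw [zero_add] at h3
    exact absurd (lt_of_le_of_lt h3 h1) (not_lt.2 hht)
  rw [hA] at key
  let g : A →+* (A ⧸ Ideal.span {a}) ⧸ P := (Ideal.Quotient.mk P).comp mk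
  have hg : Function.Surjective g := Ideal.Quotient.mk_surjective.comp Ideal.Quotient.mk_surjective
  have hker : RingHom.ker g = P.comap mk := by rw [← RingHom.comap_ker, Ideal.mk_ker]
  rw [← ringKrullDim_eq_of_ringEquiv (RingHom.quotientKerEquivOfSurjective hg),
    ringKrullDim_eq_of_ringEquiv (Ideal.quotEquivOfEq hker)]
  generalize ringKrullDim (A ⧸ P.comap mk) = x at key ⊢
  obtain ⟨m, rfl⟩ : ∃ m, n = m + 1 := ⟨n - 1, by omega⟩
  induction x using WithBot.recBotCoe with
  | bot => rw [WithBot.bot_add] at key; exact absurd key.symm (WithBot.natCast_ne_bot (m + 1))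
  | coe x =>
    induction x using ENat.recTopCoe with
    | top => exact absurd key (by
      rw [show ((⊤ : ℕ∞) : WithBot ℕ∞) + 1 = ((⊤ + 1 : ℕ∞) : WithBot ℕ∞) from rfl, top_add]; exact fun h => absurd (WithBot.coe_injective (h.trans (by norm_cast))) (ENat.top_ne_natCast (m + 1)))
    | coe x =>
      norm_cast at key
      rw [show m + 1 - 1 = x by omega]
      rfl

theorem exists_poly_no_zero [IsAlgClosed k] {B : Type u} [CommRing B] [Algebra k B] [Algebra.FiniteType k B]
    (hdim : ∀ P ∈ minimalPrimes B, ringKrullDim (B ⧸ P) = 0) {N : ℕ} (x : Fin N → B) (e : Fin N → k)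
    (he : ∑ i, e i • x i = 1) :
    ∃ P : MvPolynomial (Fin N) k, P ≠ 0 ∧ ∀ c, MvPolynomial.eval c P ≠ 0 → ∀ p : B →ₐ[k] k, p (∑ i, c i • x i) ≠ 0 := by
  classical
  haveI : IsNoetherianRing B := Algebra.FiniteType.isNoetherianRing k B
  let S := (minimalPrimes.finite_of_isNoetherianRing B).toFinset
  have hmax : ∀ P : S, (P.1).IsMaximal := fun P => by
    have hP : P.1 ∈ minimalPrimes B := (Set.Finite.mem_toFinset _).1 P.2
    haveI : P.1.IsPrime := hP.1.1
    haveI : Ring.KrullDimLE 0 (B ⧸ P.1) := (Ring.krullDimLE_iff).2 (by rw [hdim _ hP]; simp)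
    exact Ideal.Quotient.maximal_of_isField _ Ring.KrullDimLE.isField_of_isDomain
  have hpt : ∀ P : S, ∃ p : B →ₐ[k] k, RingHom.ker p = P.1 := fun P => haveI := hmax P; exists_algHom_of_isMaximal _
  choose p hp using hpt
  let L : S → MvPolynomial (Fin N) k := fun P => ∑ i, MvPolynomial.C (p P (x i)) * MvPolynomial.X i
  have hL : ∀ P c, MvPolynomial.eval c (L P) = p P (∑ i, c i • x i) := fun P c => by
    simp only [L, map_sum, map_smul, map_mul, MvPolynomial.eval_C, MvPolynomial.eval_X, smul_eq_mul, mul_comm]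
  refine ⟨∏ P, L P, fun h0 => ?_, fun c hc p' hp' => ?_⟩
  · have := congrArg (MvPolynomial.eval e) h0
    rw [map_prod, map_zero] at this
    obtain ⟨P, -, hP⟩ := Finset.prod_eq_zero_iff.1 this
    rw [hL, he, map_one] at hP
    exact one_ne_zero hP
  · haveI : (RingHom.ker p').IsPrime := RingHom.ker_isPrime _
    obtain ⟨P, hP, hle⟩ := Ideal.exists_minimalPrimes_le (bot_le : (⊥ : Ideal B) ≤ RingHom.ker p')
    have hPS : P ∈ S := (Set.Finite.mem_toFinset _).2 hP
    have heq : P = RingHom.ker p' := (hmax ⟨P, hPS⟩).eq_of_le (RingHom.ker_ne_top _) hle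
    refine hc ?_
    rw [map_prod]
    refine Finset.prod_eq_zero (i := (⟨P, hPS⟩ : S)) (Finset.mem_univ _) ?_
    rw [hL]
    exact RingHom.mem_ker.1 ((hp ⟨P, hPS⟩).ge (heq.ge (RingHom.mem_ker.2 hp')))

theorem smoothRel_of_algEquiv {B B' : Type u} [CommRing B] [Algebra k B] [CommRing B'] [Algebra k B'] (e : B ≃ₐ[k] B')
    {m : ℕ} (h : SmoothOfRelativeDimension m (Spec.map (CommRingCat.ofHom (algebraMap k B)))) :
    SmoothOfRelativeDimension m (Spec.map (CommRingCat.ofHom (algebraMap k B'))) := by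
  have he : algebraMap k B' = (e : B →+* B').comp (algebraMap k B) := RingHom.ext fun c => (e.commutes c).symm
  rw [he, CommRingCat.ofHom_comp, Spec.map_comp]
  haveI : IsIso (CommRingCat.ofHom (e : B →+* B')) := e.toRingEquiv.toCommRingCatIso.isIso_hom
  exact IsZariskiLocalAtSource.comp (P := @SmoothOfRelativeDimension m) h _

theorem exists_poly_smooth₂ [Infinite k] [IsDomain A] {n : ℕ} (hn : 1 ≤ n) (hA : ringKrullDim A = n) {a : A} (ha : a ≠ 0)
    [Algebra.Smooth k (A ⧸ Ideal.span {a})] {N : ℕ} (x : Fin N → A)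
    (hx : Function.Surjective (MvPolynomial.aeval x : MvPolynomial (Fin N) k →ₐ[k] A)) (e : Fin N → k)
    (he : ∑ i, e i • x i = 1) :
    ∃ P : MvPolynomial (Fin N) k, P ≠ 0 ∧ ∀ c, MvPolynomial.eval c P ≠ 0 →
      SmoothOfRelativeDimension (n - 2)
        (Spec.map (CommRingCat.ofHom (algebraMap k (A ⧸ Ideal.span {a, ∑ i, c i • x i})))) := by
  classical
  let π₁ := Ideal.Quotient.mkₐ k (Ideal.span {a})
  let y : Fin N → A ⧸ Ideal.span {a} := fun i => π₁ (x i)
  have hy : Function.Surjective (MvPolynomial.aeval y : MvPolynomial (Fin N) k →ₐ[k] _) := fun z => by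
    obtain ⟨b, rfl⟩ := Ideal.Quotient.mkₐ_surjective k (Ideal.span {a}) z
    obtain ⟨f, rfl⟩ := hx b
    exact ⟨f, by rw [← MvPolynomial.comp_aeval]; rfl⟩
  obtain ⟨g, hg0, hg⟩ := S4026.exists_poly_rel (n - 1) (ringKrullDim_minimal_cut k hn hA ha) y hy
  obtain ⟨b, hb⟩ : ∃ b : Fin (N + 1) → k, MvPolynomial.eval b g ≠ 0 := by
    by_contra h
    push Not at h
    exact hg0 (MvPolynomial.funext fun v => by rw [h v, map_zero])
  let t := b 0
  let sub : Fin (N + 1) → MvPolynomial (Fin N) k :=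
    Fin.cases (MvPolynomial.C t) fun i => MvPolynomial.X i - MvPolynomial.C (t * e i)
  have hev : ∀ v : Fin N → k, MvPolynomial.eval v (MvPolynomial.aeval sub g) =
      MvPolynomial.eval (Fin.cases t fun i => v i - t * e i) g := fun v => by
    show MvPolynomial.aeval v (MvPolynomial.aeval sub g) = MvPolynomial.aeval _ g
    rw [← AlgHom.comp_apply, MvPolynomial.comp_aeval]
    congr 2
    funext i
    cases i using Fin.cases <;> simp [sub]
  refine ⟨MvPolynomial.aeval sub g, fun h0 => ?_, fun c hc => ?_⟩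
  · refine hb ?_
    have h1 := hev fun i => b i.succ + t * e i
    rw [h0, map_zero] at h1
    refine Eq.trans ?_ h1.symm
    refine congrArg (fun v : Fin (N + 1) → k => MvPolynomial.eval v g) (_root_.funext fun i => ?_)
    cases i using Fin.cases <;> simp [t]
  · rw [hev] at hc
    have h := hg _ hc
    have e1 : algebraMap k (A ⧸ Ideal.span {a}) ((Fin.cases t fun i => c i - t * e i : Fin (N + 1) → k) 0) +
        ∑ i : Fin N, algebraMap k (A ⧸ Ideal.span {a}) ((Fin.cases t fun i => c i - t * e i : Fin (N + 1) → k) i.succ) * y i =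
          π₁ (∑ i, c i • x i) := by
      simp only [Fin.cases_zero, Fin.cases_succ, y, ← Algebra.smul_def]
      simp only [sub_smul, ← smul_smul, Finset.sum_sub_distrib, ← Finset.smul_sum, map_sum, map_smul]
      have h1 : ∑ i, e i • π₁ (x i) = 1 := by simp only [← map_smul, ← map_sum, he, map_one]
      rw [h1, Algebra.algebraMap_eq_smul_one]
      abel
    rw [e1, show n - 1 - 1 = n - 2 by omega] at h
    refine smoothRel_of_algEquiv ?_ h
    refine (Ideal.quotientEquivAlgOfEq k ?_).trans ((DoubleQuot.quotQuotEquivQuotSupₐ k (Ideal.span {a})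
      (Ideal.span {∑ i, c i • x i})).trans (Ideal.quotientEquivAlgOfEq k ?_))
    · rw [Ideal.map_span, Set.image_singleton]
    · rw [← Ideal.span_union, Set.singleton_union]

end Ring

variable {r d : ℕ} {X : Scheme.{u}} (ι : X ⟶ CohB1.ProjSpace r k) [IsClosedImmersion ι]

variable [IsAlgClosed k] (n : ℕ) [SmoothOfRelativeDimension n (ι ≫ CohB1.ProjSpace.toSpec r k)] [IsIntegral X]
include n

theorem smooth_section_chart (hn : 1 ≤ n) (H : LefPen.Form r k d)
    (hH : LefPen.Transversal k n 1 (LefPen.secToSpec ι ({H} : Set (LefPen.Form r k d)))) (j : Fin (r + 1)) :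
    Algebra.Smooth k (Γ(X, U ι j) ⧸ Ideal.span {φ ι j H}) := by
  rcases hH with ⟨-, hsm⟩ | ⟨h, -⟩
  swap
  · omega
  let J := LefPen.secIdeal ι ({H} : Set (LefPen.Form r k d))
  let W : X.affineOpens := ⟨U ι j, isAffineOpen_U ι j⟩
  have key : ∀ I : Ideal Γ(X, U ι j), J.ideal W = I →
      SmoothOfRelativeDimension (n - 1) (Spec.map (CommRingCat.ofHom (algebraMap k (Γ(X, U ι j) ⧸ I)))) := by
    rintro I rfl
    have e1 : J.subschemeCover.f W ≫ J.subschemeι ≫ ι ≫ CohB1.ProjSpace.toSpec r k =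
        Spec.map (CommRingCat.ofHom (algebraMap k (Γ(X, U ι j) ⧸ J.ideal W))) := by
      rw [← Category.assoc, J.subschemeCover_map_subschemeι, J.glueDataObjι_ι, Category.assoc,
        PlaneTwistLib.fromSpec_comp _ W.2, ← Spec.map_comp, ← BertiniProjLib.π_C]
      rfl
    rw [← e1]
    exact IsZariskiLocalAtSource.comp (P := @SmoothOfRelativeDimension (n - 1)) hsm _
  haveI := key _ (mk_ideal_sec ι H j)
  have h2 : Smooth (Spec.map (CommRingCat.ofHom (algebraMap k (Γ(X, U ι j) ⧸ Ideal.span {φ ι j H})))) :=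
    SmoothOfRelativeDimension.smooth (n - 1) _
  rw [HasRingHomProperty.Spec_iff (P := @Smooth), CommRingCat.hom_ofHom] at h2
  exact RingHom.smooth_algebraMap.1 h2

/-- No singular common zero on a chart. -/
theorem exists_poly_chart₂ (hn : 1 ≤ n) (hd : 1 ≤ d) (H : LefPen.Form r k d)
    (hH : LefPen.Transversal k n 1 (LefPen.secToSpec ι ({H} : Set (LefPen.Form r k d)))) {N : ℕ}
    (B : Module.Basis (Fin N) k (LefPen.Form r k d)) (j : Fin (r + 1)) :
    ∃ P : MvPolynomial (Fin N) k, P ≠ 0 ∧ ∀ G, MvPolynomial.eval (B.equivFun G) P ≠ 0 →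
      ∀ (q : Spec (CommRingCat.of k) ⟶ X) (hq : q ≫ g0 ι = 𝟙 _) (h : q pt ∈ U ι j),
        pA ι q hq j h (φ ι j H) = 0 → pA ι q hq j h (φ ι j G) = 0 →
          ∀ a b : k, ¬ (a = 0 ∧ b = 0) → ¬ Sing (pA ι q hq j h) (φ ι j (a • H + b • G)) := by
  classical
  haveI : Infinite k := IsAlgClosed.instInfinite
  rcases subsingleton_or_nontrivial Γ(X, U ι j) with hA | hA
  · exact ⟨1, one_ne_zero, fun G _ q hq h _ _ a b _ _ =>
      one_ne_zero ((map_one (pA ι q hq j h)).symm.trans ((congrArg _ (Subsingleton.elim _ 0)).trans (map_zero _)))⟩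
  haveI := smooth_chartRing ι n j
  have hne : Nonempty (U ι j) := by
    by_contra hne
    have e : U ι j = ⊥ := Opens.ext (Set.eq_empty_of_forall_notMem fun y hy => hne ⟨⟨y, hy⟩⟩)
    have : Subsingleton Γ(X, U ι j) := by rw [e]; exact CommRingCat.subsingleton_of_isTerminal X.sheaf.isTerminalOfEmpty
    exact not_subsingleton Γ(X, U ι j) this
  haveI := hne
  haveI : IsDomain Γ(X, U ι j) := inferInstance
  obtain ⟨x₀, E, hE, hxG, hx₀⟩ := exists_gens ι (d := d) hd j
  haveI : Algebra.FiniteType k Γ(X, U ι j) := Algebra.FiniteType.of_surjective _ hx₀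
  have hA' : ringKrullDim Γ(X, U ι j) = n := by
    rw [← ringKrullDim_eq_of_ringEquiv (RingEquiv.quotientBot _)]
    exact hdim_chart ι n j ⊥ (by rw [IsDomain.minimalPrimes_eq_singleton_bot]; rfl)
  have ha : φ ι j H ≠ 0 := fun h0 => by
    obtain ⟨m, hm⟩ := Ideal.exists_maximal Γ(X, U ι j)
    obtain ⟨p, -⟩ := exists_algHom_of_isMaximal (k := k) m
    obtain ⟨q, hq, h, rfl⟩ := exists_point ι j p
    refine (not_transversal_iff ι n hn hd H).2 ⟨q, hq, j, h, ?_⟩ hH
    rw [h0]
    exact ⟨map_zero _, fun ψ => by rw [map_zero, map_zero, map_zero]⟩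
  haveI := smooth_section_chart ι n hn H hH j
  let x : Fin N → Γ(X, U ι j) := fun i => φ ι j (B i)
  have hφ : ∀ G, ∑ i, B.equivFun G i • x i = φ ι j G := fun G => by
    conv_rhs => rw [← B.sum_equivFun G, map_sum]
    exact Finset.sum_congr rfl fun i _ => (map_smul _ _ _).symm
  have he : ∑ i, B.equivFun E i • x i = 1 := (hφ E).trans hE
  have hx : Function.Surjective (MvPolynomial.aeval x : MvPolynomial (Fin N) k →ₐ[k] Γ(X, U ι j)) := by
    rw [← AlgHom.range_eq_top, ← top_le_iff, ← (AlgHom.range_eq_top _).2 hx₀, ← Algebra.adjoin_range_eq_range_aeval,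
      ← Algebra.adjoin_range_eq_range_aeval, Algebra.adjoin_le_iff]
    rintro _ ⟨i, rfl⟩
    obtain ⟨G, hG⟩ := hxG i
    rw [← hG, ← hφ G]
    exact Subalgebra.sum_mem _ fun l _ => Subalgebra.smul_mem _ (Algebra.subset_adjoin (Set.mem_range_self l)) _
  rcases Nat.lt_or_ge n 2 with hn2 | hn2
  · have hdim := ringKrullDim_minimal_cut k hn hA' ha
    rw [show n - 1 = 0 by omega, Nat.cast_zero] at hdim
    obtain ⟨P, hP, hPc⟩ := exists_poly_no_zero hdim (fun i => Ideal.Quotient.mkₐ k (Ideal.span {φ ι j H}) (x i))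
      (B.equivFun E) (by simp only [← map_smul, ← map_sum, he, map_one])
    refine ⟨P, hP, fun G hG q hq h hF hG0 a b _ _ => ?_⟩
    let p' : (Γ(X, U ι j) ⧸ Ideal.span {φ ι j H}) →ₐ[k] k := Ideal.Quotient.liftₐ _ (pA ι q hq j h) fun z hz => by
      obtain ⟨w, rfl⟩ := Ideal.mem_span_singleton'.1 hz
      rw [map_mul, hF, mul_zero]
    refine hPc _ hG p' ?_
    simp only [← map_smul, ← map_sum, hφ]
    exact hG0
  · obtain ⟨P, hP, hPc⟩ := exists_poly_smooth₂ hn hA' ha x hx (B.equivFun E) he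
    refine ⟨P, hP, fun G hG q hq h hF hG0 a b hab hs => ?_⟩
    have hchart := hPc _ hG
    rw [hφ] at hchart
    have hd' := hdim_chart ι n j
    rw [map_add, map_smul, map_smul] at hs
    by_cases hb : b = 0
    · have ha0 : a ≠ 0 := fun ha0 => hab ⟨ha0, hb⟩
      have hs' : Sing (pA ι q hq j h) (φ ι j H) := by
        refine ⟨hF, fun χ => ?_⟩
        have := hs.2 χ
        simp only [hb, zero_smul, add_zero, Derivation.map_smul, LinearMap.map_smul_of_tower, map_smul, smul_eq_mul] at this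
        exact (mul_eq_zero.1 this).resolve_left ha0
      exact (not_transversal_iff ι n hn hd H).2 ⟨q, hq, j, h, hs'⟩ hH
    · refine not_smooth₂_of_sing x hx hd' hn2 (φ ι j H) (a • φ ι j H + b • φ ι j G) _ hF hs ?_
      have e : Ideal.span {φ ι j H, a • φ ι j H + b • φ ι j G} = Ideal.span {φ ι j H, φ ι j G} := by
        refine le_antisymm (Ideal.span_le.2 (Set.insert_subset (Ideal.subset_span (Or.inl rfl))
          (Set.singleton_subset_iff.2 (add_mem (Submodule.smul_of_tower_mem _ a (Ideal.subset_span (Or.inl rfl)))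
            (Submodule.smul_of_tower_mem _ b (Ideal.subset_span (Or.inr rfl)))))))
          (Ideal.span_le.2 (Set.insert_subset (Ideal.subset_span (Or.inl rfl)) (Set.singleton_subset_iff.2 ?_)))
        have h1 : b⁻¹ • (a • φ ι j H + b • φ ι j G) - (b⁻¹ * a) • φ ι j H = φ ι j G := by
          rw [smul_add, smul_smul, smul_smul, inv_mul_cancel₀ hb, one_smul, add_sub_cancel_left]
        show φ ι j G ∈ Ideal.span {φ ι j H, a • φ ι j H + b • φ ι j G}
        have h2 : b⁻¹ • (a • φ ι j H + b • φ ι j G) - (b⁻¹ * a) • φ ι j H ∈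
            Ideal.span {φ ι j H, a • φ ι j H + b • φ ι j G} :=
          sub_mem (Submodule.smul_of_tower_mem _ _ (Ideal.subset_span (Or.inr rfl)))
            (Submodule.smul_of_tower_mem _ _ (Ideal.subset_span (Or.inl rfl)))
        rwa [h1] at h2
      rwa [e]

theorem exists_base_poly (hn : 1 ≤ n) (hd : 1 ≤ d) (H : LefPen.Form r k d)
    (hH : LefPen.Transversal k n 1 (LefPen.secToSpec ι ({H} : Set (LefPen.Form r k d)))) {N : ℕ}
    (B : Module.Basis (Fin N) k (LefPen.Form r k d)) :
    ∃ P : MvPolynomial (Fin N) k, P ≠ 0 ∧ ∀ G, MvPolynomial.eval (B.equivFun G) P ≠ 0 → ¬ Bad2 ι H G := by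
  classical
  choose P hP0 hP using exists_poly_chart₂ ι n hn hd H hH B
  refine ⟨∏ j, P j, Finset.prod_ne_zero_iff.2 fun j _ => hP0 j, fun G hG => ?_⟩
  rintro ⟨q, hq, j, h, hF, hG0, a, b, hab, hs⟩
  rw [map_prod, Finset.prod_ne_zero_iff] at hG
  exact hP j G (hG j (Finset.mem_univ _)) q hq h hF hG0 a b hab hs

end Groth.Agent.PencilLib
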