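import Groth.Agent.PencilLib.Two
import Groth.Agent.BertiniAff.Main

/-!
# A singular member through the base locus
-/

set_option autoImplicit false
set_option maxHeartbeats 600000
set_option backward.isDefEq.respectTransparency false
set_option linter.style.haveILetI false
universe u
open TensorProduct KaehlerDifferential Module AlgebraicGeometry

noncomputable section

namespace Groth.Agent.PencilLib

open LefDualLib

variable {k : Type u} [Field k] {A : Type u} [CommRing A] [Algebra k A] [Algebra.Smooth k A]

theorem exists_proj {r : ℕ} (v₀ : Fin (r + 1) → k) :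
    ∃ P : (Fin (r + 1) → k) →ₗ[k] (Fin r → k), Function.Surjective P ∧ P v₀ = 0 := by
  classical
  obtain ⟨i, hi⟩ : ∃ i, v₀ i = 0 → v₀ = 0 := by
    by_cases h : v₀ = 0
    · exact ⟨0, fun _ => h⟩
    · obtain ⟨i, hi⟩ := Function.ne_iff.1 h
      exact ⟨i, fun h' => absurd h' hi⟩
  refine ⟨LinearMap.pi fun l => LinearMap.proj (i.succAbove l) - ((v₀ i)⁻¹ * v₀ (i.succAbove l)) • LinearMap.proj i,
    fun y => ⟨Fin.insertNth i 0 y, ?_⟩, ?_⟩
  · funext l; simp
  · funext l
    by_cases h : v₀ i = 0
    · simp [hi h]
    · simp; field_simp; ring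

/-- A member singular at a base point: the base locus is not smooth of codimension two there. -/
theorem not_smooth₂_of_sing {m r : ℕ} (x : Fin m → A)
    (hx : Function.Surjective (MvPolynomial.aeval x : MvPolynomial (Fin m) k →ₐ[k] A))
    (hdim : ∀ P ∈ minimalPrimes A, ringKrullDim (A ⧸ P) = r) (hr : 2 ≤ r) (f₁ s : A) (p : A →ₐ[k] k) (hf₁ : p f₁ = 0) (hs : Sing p s)
    (hsm : SmoothOfRelativeDimension (r - 2)
      (Spec.map (CommRingCat.ofHom (algebraMap k (A ⧸ Ideal.span {f₁, s}))))) : False := by
  classical
  haveI : (RingHom.ker p).IsPrime := RingHom.ker_isPrime _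
  have hker : Ideal.span {f₁, s} ≤ RingHom.ker p := Ideal.span_le.2 (Set.insert_subset (RingHom.mem_ker.2 hf₁)
    (Set.singleton_subset_iff.2 (RingHom.mem_ker.2 hs.1)))
  obtain ⟨f, hf, -, ⟨b⟩⟩ := exists_chart_basis x hx hdim (RingHom.ker p)
  let T := Localization.Away f
  have hfu : IsUnit (p f) := isUnit_iff_ne_zero.2 fun h => hf h
  let pT : T →ₐ[k] k := IsLocalization.Away.liftAlgHom (S := T) f (f := p) hfu
  obtain ⟨r, rfl⟩ : ∃ r', r = r' + 1 := ⟨r - 1, by omega⟩
  let δ : Fin (r + 1) → A → k := fun l a => pT (b.repr (D k T (algebraMap A T a)) l)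
  obtain ⟨P, hPs, hPf⟩ := exists_proj fun l => δ l f₁
  let B := A ⧸ Ideal.span {f₁, s}
  let pB : B →ₐ[k] k := Ideal.Quotient.liftₐ _ p fun a ha => hker ha
  letI : Module B (Fin r → k) := Module.compHom _ pB.toRingHom
  haveI : IsScalarTower k B (Fin r → k) := ⟨fun c y v => by
    show pB (c • y) • v = c • (pB y • v)
    rw [map_smul, smul_assoc]⟩
  have hpT : ∀ a, pT (algebraMap A T a) = p a := fun a => IsLocalization.Away.lift_eq f hfu a
  have hδ : ∀ l a c, δ l (a * c) = p a * δ l c + p c * δ l a := fun l a c => by
    simp only [δ, map_mul, Derivation.leibniz, map_add, map_smul, Finsupp.add_apply, Finsupp.smul_apply, smul_eq_mul,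
      hpT]
  have hδs : ∀ l, δ l s = 0 := fun l => by
    obtain ⟨M, F, G, -, -, hFG⟩ := Module.Finite.exists_comp_eq_id_of_projective A Ω[A⁄k]
    show pT _ = 0
    have e : D k T (algebraMap A T s) = ∑ i, algebraMap A T (G (D k A s) i) • KaehlerDifferential.map k k A T (F (Pi.single i 1)) := by
      rw [← KaehlerDifferential.map_D k k A T s]
      simp only [algebraMap_smul, ← map_smul, ← map_sum, ← pi_eq_sum_univ']
      exact congrArg _ (LinearMap.congr_fun hFG _).symm
    rw [e]
    simp only [map_sum, map_smul, Finsupp.finsetSum_apply, Finsupp.smul_apply, smul_eq_mul, map_mul, hpT]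
    exact Finset.sum_eq_zero fun i _ => by
      rw [show p (G (D k A s) i) = 0 from hs.2 ((LinearMap.proj i).comp G), zero_mul]
  -- the derivation of the quotient
  have hwd : ∀ a c, Ideal.Quotient.mk (Ideal.span {f₁, s}) a = Ideal.Quotient.mk (Ideal.span {f₁, s}) c →
      P (fun l => δ l a) = P (fun l => δ l c) := by
    intro a c h
    obtain ⟨u, v, huv⟩ := Ideal.mem_span_pair.1 (Ideal.Quotient.eq.1 h)
    have h' : (fun l => δ l (u * f₁ + v * s + c)) = p u • (fun l => δ l f₁) + fun l => δ l c := by
      funext l
      have : δ l (u * f₁ + v * s + c) = δ l (u * f₁) + δ l (v * s) + δ l c := by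
        simp only [δ, map_add, Finsupp.add_apply]
      rw [Pi.add_apply, Pi.smul_apply, smul_eq_mul, this, hδ, hδ, hδs, hs.1, hf₁]
      ring
    rw [show a = u * f₁ + v * s + c by rw [huv, sub_add_cancel], h', map_add, map_smul, hPf, smul_zero, zero_add]
  choose sec hsec using (Ideal.Quotient.mk_surjective (I := Ideal.span {f₁, s}))
  have hadd : ∀ a c, (fun l => δ l (a + c)) = (fun l => δ l a) + fun l => δ l c := fun a c => funext fun l => by
    simp only [δ, map_add, Finsupp.add_apply, Pi.add_apply]
  have hsmul : ∀ (t : k) (a : A), (fun l => δ l (t • a)) = t • fun l => δ l a := fun t a => funext fun l => by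
    rw [Algebra.smul_def, hδ, p.commutes, Algebra.algebraMap_self, RingHom.id_apply, Pi.smul_apply, smul_eq_mul]
    simp [δ, ← IsScalarTower.algebraMap_apply]
  let d₀ : B →ₗ[k] (Fin r → k) :=
    { toFun := fun y => P fun l => δ l (sec y)
      map_add' := fun y z => by
        rw [hwd (sec (y + z)) (sec y + sec z) (by rw [map_add, hsec, hsec, hsec]), hadd, map_add]
      map_smul' := fun c y => by
        rw [RingHom.id_apply, hwd (sec (c • y)) (c • sec y) (by
          rw [← Ideal.Quotient.mkₐ_eq_mk k, map_smul, Ideal.Quotient.mkₐ_eq_mk, hsec, hsec]), hsmul, map_smul] }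
  let d : Derivation k B (Fin r → k) := Derivation.mk' d₀ fun y z => by
    show P (fun l => δ l (sec (y * z))) = pB y • P (fun l => δ l (sec z)) + pB z • P (fun l => δ l (sec y))
    rw [hwd (sec (y * z)) (sec y * sec z) (by rw [map_mul, hsec, hsec, hsec]),
      show pB y = p (sec y) from (congrArg pB (hsec y)).symm,
      show pB z = p (sec z) from (congrArg pB (hsec z)).symm, ← map_smul, ← map_smul, ← map_add]
    exact congrArg P (funext fun l => by rw [hδ]; rfl)
  -- it is surjective, so a free neighbourhood has too few generators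
  rw [show r + 1 - 2 = r - 1 by omega, HasRingHomProperty.Spec_iff (P := @SmoothOfRelativeDimension (r - 1)), CommRingCat.hom_ofHom] at hsm
  obtain ⟨gs, hspan, hloc⟩ := hsm
  obtain ⟨g, hg, hg0⟩ : ∃ g ∈ gs, pB g ≠ 0 := by
    by_contra! hcon
    have h1 : Ideal.span gs ≤ RingHom.ker pB := Ideal.span_le.2 fun g hg => RingHom.mem_ker.2 (hcon g hg)
    exact one_ne_zero ((map_one pB).symm.trans (RingHom.mem_ker.1 (h1 (hspan.ge Submodule.mem_top))))
  let U := Localization.Away g
  haveI : Algebra.IsStandardSmoothOfRelativeDimension (r - 1) k U := by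
    rw [← RingHom.isStandardSmoothOfRelativeDimension_algebraMap, IsScalarTower.algebraMap_eq k B U]
    exact hloc g hg
  haveI : Algebra.IsStandardSmooth k U := Algebra.IsStandardSmoothOfRelativeDimension.isStandardSmooth (r - 1)
  let pU : U →ₐ[k] k := IsLocalization.Away.liftAlgHom (S := U) g (f := pB) (isUnit_iff_ne_zero.2 hg0)
  letI : Module U (Fin r → k) := Module.compHom _ pU.toRingHom
  haveI : IsScalarTower k U (Fin r → k) := ⟨fun c y v => by
    show pU (c • y) • v = c • (pU y • v)
    rw [map_smul, smul_assoc]⟩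
  have hpU : ∀ y, pU (algebraMap B U y) = pB y := fun y => IsLocalization.Away.lift_eq g (isUnit_iff_ne_zero.2 hg0) y
  haveI : IsScalarTower B U (Fin r → k) := ⟨fun y z v => by
    funext l
    show pU (y • z) * v l = pB y * (pU z * v l)
    rw [Algebra.smul_def, map_mul, hpU, mul_assoc]⟩
  let L : Ω[B⁄k] →ₗ[B] (Fin r → k) := d.liftKaehlerDifferential
  have hbU : IsBaseChange U (KaehlerDifferential.map k k B U) := KaehlerDifferential.isBaseChange_of_formallyEtale k B U
  let LU : Ω[U⁄k] →ₗ[U] (Fin r → k) := hbU.lift L
  have hsur : ∀ v : Fin r → k, ∃ w, LU w = v := by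
    -- the coordinate differentials realise the unit vectors
    have hspanT : ∀ w : Ω[T⁄k], (fun l => pT (b.repr w l)) ∈
        Submodule.span k (Set.range fun a : A => (fun l => δ l a : Fin (r + 1) → k)) := fun w => by
      have hw : w ∈ Submodule.span T (Set.range fun a : A => D k T (algebraMap A T a)) := by
        have hbT : IsBaseChange T (KaehlerDifferential.map k k A T) := KaehlerDifferential.isBaseChange_of_formallyEtale k A T
        induction w using hbT.inductionOn with
        | zero => exact zero_mem _
        | tmul m =>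
          have hm : m ∈ Submodule.span A (Set.range (D k A)) := KaehlerDifferential.span_range_derivation k A ▸ trivial
          induction hm using Submodule.span_induction with
          | mem z hz => obtain ⟨a, rfl⟩ := hz; rw [KaehlerDifferential.map_D]; exact Submodule.subset_span ⟨a, rfl⟩
          | zero => rw [map_zero]; exact zero_mem _
          | add _ _ _ _ h h' => rw [map_add]; exact add_mem h h'
          | smul c _ _ h => rw [map_smul, ← algebraMap_smul T c]; exact Submodule.smul_mem _ _ h
        | smul c _ h => exact Submodule.smul_mem _ _ h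
        | add _ _ h h' => exact add_mem h h'
      induction hw using Submodule.span_induction with
      | mem z hz => obtain ⟨a, rfl⟩ := hz; exact Submodule.subset_span ⟨a, rfl⟩
      | zero => simp only [map_zero, Finsupp.zero_apply]; exact zero_mem _
      | add y z _ _ h h' =>
        simp only [map_add, Finsupp.add_apply]
        exact add_mem h h'
      | smul c y _ h =>
        simp only [map_smul, Finsupp.smul_apply, smul_eq_mul, map_mul]
        exact Submodule.smul_mem _ (pT c) h
    intro v
    obtain ⟨v', rfl⟩ := hPs v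
    have hv : v' ∈ Submodule.span k (Set.range fun a : A => (fun l => δ l a : Fin (r + 1) → k)) := by
      have e : (fun l => pT (b.repr (∑ i, algebraMap k T (v' i) • b i) l)) = v' := by
        funext l
        rw [b.repr_sum_self]
        exact pT.commutes _
      rw [← e]; exact hspanT _
    induction hv using Submodule.span_induction with
    | mem z hz =>
      obtain ⟨a, rfl⟩ := hz
      refine ⟨KaehlerDifferential.map k k B U (D k B (Ideal.Quotient.mk _ a)), ?_⟩
      rw [hbU.lift_eq, Derivation.liftKaehlerDifferential_comp_D]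
      exact hwd _ _ (hsec _)
    | zero => exact ⟨0, by rw [map_zero, map_zero]⟩
    | add y z _ _ h h' =>
      obtain ⟨w, hw⟩ := h; obtain ⟨w', hw'⟩ := h'
      exact ⟨w + w', by rw [map_add, map_add, hw, hw']⟩
    | smul c y _ h =>
      obtain ⟨w, hw⟩ := h
      refine ⟨algebraMap k U c • w, ?_⟩
      rw [map_smul, map_smul, ← hw]
      show pU (algebraMap k U c) • LU w = c • LU w
      rw [AlgHom.commutes]; rfl
  haveI : Nontrivial U := pU.toRingHom.domain_nontrivial
  haveI : Module.Free U Ω[U⁄k] := inferInstance
  have hrk := Algebra.IsStandardSmoothOfRelativeDimension.rank_kaehlerDifferential (R := k) (S := U) (r - 1)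
  let bU : Basis (Fin (r - 1)) U Ω[U⁄k] :=
    (Module.finBasisOfFinrankEq U Ω[U⁄k] (Module.finrank_eq_of_rank_eq hrk))
  have htop : Submodule.span k (Set.range fun i => LU (bU i)) = ⊤ := by
    refine eq_top_iff.2 fun v _ => ?_
    obtain ⟨w, rfl⟩ := hsur v
    rw [← bU.sum_repr w, map_sum]
    refine Submodule.sum_mem _ fun i _ => ?_
    rw [map_smul]
    exact Submodule.smul_mem _ (pU (bU.repr w i)) (Submodule.subset_span ⟨i, rfl⟩)
  have h1 := finrank_range_le_card (R := k) fun i => LU (bU i)
  rw [Set.finrank, htop, finrank_top, Module.finrank_fin_fun, Fintype.card_fin] at h1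
  omega


end Groth.Agent.PencilLib
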