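import Groth.Agent.OdpLib.Sec
import Groth.Agent.LefDualLib.Open
import Groth.Agent.PencilLib.Cut2

/-!
# Base loci of pencils
-/

set_option autoImplicit false
set_option maxHeartbeats 1000000
set_option backward.isDefEq.respectTransparency false
set_option backward.isDefEq.respectTransparency.types false
set_option linter.style.haveILetI false
universe u
open CategoryTheory CategoryTheory.Limits AlgebraicGeometry TopologicalSpace IsLocalRing KaehlerDifferential Module
open Groth.Agent.AmpleEmb Groth.Agent.BertiniProjLib Groth.Agent.LefDualLib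

noncomputable section

namespace Groth.Agent.PencilLib

variable {k : Type u} [Field k] {A : Type u} [CommRing A] [Algebra k A]

theorem exists_minor (p : A →ₐ[k] k) {f g : A} (hf : p f = 0) (hg : p g = 0)
    (h : ∀ a b : k, ¬ (a = 0 ∧ b = 0) → ¬ Sing p (a • f + b • g)) :
    ∃ ψ ψ' : Ω[A⁄k] →ₗ[A] A, p (ψ (D k A f) * ψ' (D k A g) - ψ' (D k A f) * ψ (D k A g)) ≠ 0 := by
  by_contra! hcon
  by_cases hz : ∀ χ : Ω[A⁄k] →ₗ[A] A, p (χ (D k A f)) = 0
  · exact h 1 0 (fun h => one_ne_zero h.1) (by rw [one_smul, zero_smul, add_zero]; exact ⟨hf, hz⟩)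
  · push Not at hz
    obtain ⟨χ₀, hχ⟩ := hz
    refine h (p (χ₀ (D k A g))) (-p (χ₀ (D k A f))) (fun h => hχ (neg_eq_zero.1 h.2)) ⟨by simp [hf, hg], fun χ => ?_⟩
    have := hcon χ χ₀
    rw [map_sub, map_mul, map_mul] at this
    simp only [map_add, Derivation.map_smul, LinearMap.map_smul_of_tower, map_smul, smul_eq_mul]
    linear_combination this

theorem minor_eq_zero_of_sing (p : A →ₐ[k] k) {f g : A} {a b : k} (hab : ¬ (a = 0 ∧ b = 0))
    (hs : Sing p (a • f + b • g)) (ψ ψ' : Ω[A⁄k] →ₗ[A] A) :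
    p (ψ (D k A f) * ψ' (D k A g) - ψ' (D k A f) * ψ (D k A g)) = 0 := by
  have h1 := hs.2 ψ
  have h2 := hs.2 ψ'
  simp only [map_add, Derivation.map_smul, LinearMap.map_smul_of_tower, map_smul, smul_eq_mul] at h1 h2
  rw [map_sub, map_mul, map_mul]
  by_cases ha : a = 0
  · have hb : b ≠ 0 := fun hb => hab ⟨ha, hb⟩
    refine (mul_eq_zero.1 (show b * _ = 0 by
      linear_combination (p (ψ (D k A f))) * h2 - (p (ψ' (D k A f))) * h1)).resolve_left hb
  · refine (mul_eq_zero.1 (show a * _ = 0 by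
      linear_combination (p (ψ' (D k A g))) * h1 - (p (ψ (D k A g))) * h2)).resolve_left ha

theorem minor_expand {V : Type u} [AddCommGroup V] [Module k V] {N : ℕ} (B : Basis (Fin N) k V) (P Q : V →ₗ[k] A) (F G : V) :
    P F * Q G - Q F * P G = ∑ o : Option (Fin N), ∑ o' : Option (Fin N),
      ((o.elim 1 (B.equivFun F)) * (o'.elim 1 (B.equivFun G))) •
        (o.elim 0 fun a => o'.elim 0 fun a' => P (B a) * Q (B a') - Q (B a) * P (B a')) := by
  simp only [Fintype.sum_option, Option.elim_none, Option.elim_some, smul_zero, Finset.sum_const_zero, zero_add]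
  conv_lhs => rw [← B.sum_equivFun F, ← B.sum_equivFun G]
  simp only [map_sum, map_smul, Finset.sum_mul, Finset.mul_sum, ← Finset.sum_sub_distrib]
  rw [Finset.sum_comm]
  refine Finset.sum_congr rfl fun a _ => Finset.sum_congr rfl fun a' _ => ?_
  simp only [Algebra.smul_def, map_mul]
  ring

variable {r d : ℕ} {X : Scheme.{u}} (ι : X ⟶ CohB1.ProjSpace r k) [IsClosedImmersion ι]

/-- The base locus is not transversal. -/
def Bad2 (F G : LefPen.Form r k d) : Prop :=
  ∃ (q : Spec (CommRingCat.of k) ⟶ X) (hq : q ≫ g0 ι = 𝟙 _) (j : Fin (r + 1)) (h : q pt ∈ U ι j),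
    pA ι q hq j h (φ ι j F) = 0 ∧ pA ι q hq j h (φ ι j G) = 0 ∧
      ∃ a b : k, ¬ (a = 0 ∧ b = 0) ∧ Sing (pA ι q hq j h) (φ ι j (a • F + b • G))

theorem mk_ideal_sec₂ (F G : LefPen.Form r k d) (j : Fin (r + 1)) :
    (LefPen.secIdeal ι ({F, G} : Set (LefPen.Form r k d))).ideal ⟨U ι j, isAffineOpen_U ι j⟩ =
      Ideal.span {φ ι j F, φ ι j G} := by
  have e : LefPen.secIdeal ι ({F, G} : Set (LefPen.Form r k d)) =
      LefPen.secIdeal ι ({F} : Set (LefPen.Form r k d)) ⊔ LefPen.secIdeal ι ({G} : Set (LefPen.Form r k d)) := by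
    show ((⨆ x ∈ ({F, G} : Set (LefPen.Form r k d)), LefPen.hypIdeal x) : (CohB1.ProjSpace r k).IdealSheafData).comap ι = _
    rw [iSup_pair, Scheme.IdealSheafData.comap_sup]
    show _ = ((⨆ x ∈ ({F} : Set (LefPen.Form r k d)), LefPen.hypIdeal x) : (CohB1.ProjSpace r k).IdealSheafData).comap ι ⊔
      ((⨆ x ∈ ({G} : Set (LefPen.Form r k d)), LefPen.hypIdeal x) : (CohB1.ProjSpace r k).IdealSheafData).comap ι
    rw [iSup_singleton, iSup_singleton]
  rw [e, Scheme.IdealSheafData.ideal_sup, Pi.sup_apply, mk_ideal_sec, mk_ideal_sec, ← Ideal.span_insert]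

theorem zero_chart (F : LefPen.Form r k d) (q : Spec (CommRingCat.of k) ⟶ X) (hq : q ≫ g0 ι = 𝟙 _)
    (j j' : Fin (r + 1)) (h : q pt ∈ U ι j) (h' : q pt ∈ U ι j') (h0 : pA ι q hq j h (φ ι j F) = 0) :
    pA ι q hq j' h' (φ ι j' F) = 0 := by
  obtain ⟨y, hy⟩ := (OdpLib.point_data ι F q hq j h).1 h0
  obtain ⟨hφ, -⟩ := (OdpLib.point_data ι F q hq j' h').2 y hy
  exact hφ

variable [IsAlgClosed k] (n : ℕ) [SmoothOfRelativeDimension n (ι ≫ CohB1.ProjSpace.toSpec r k)] [IsIntegral X]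
include n

/-- Common zero in a curve gives a singular member. -/
theorem exists_sing_member (hn : n = 1) (hd : 1 ≤ d) (F G : LefPen.Form r k d) (q : Spec (CommRingCat.of k) ⟶ X)
    (hq : q ≫ g0 ι = 𝟙 _) (j : Fin (r + 1)) (h : q pt ∈ U ι j) (hF : pA ι q hq j h (φ ι j F) = 0)
    (hG : pA ι q hq j h (φ ι j G) = 0) : Bad2 ι F G := by
  subst hn
  obtain ⟨hsm, hdom, hnoe, ψ, h1, h2⟩ := OdpLib.chart_data ι 0 hd j q hq h
  have hmem : ∀ {H : LefPen.Form r k d}, pA ι q hq j h (φ ι j H) = 0 →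
      ψ (φ ι j H) ∈ maximalIdeal (MvPowerSeries (Fin 1) k) := fun {H} hH => by
    have := (h1 (φ ι j H) 1).2 (by rw [pow_one]; exact hH)
    rwa [pow_one] at this
  obtain ⟨α, hα⟩ := OdpLib.exists_linPart (hmem hF)
  obtain ⟨β, hβ⟩ := OdpLib.exists_linPart (hmem hG)
  refine ⟨q, hq, j, h, hF, hG, ?_⟩
  by_cases hα0 : α 0 = 0
  · refine ⟨1, 0, fun h => one_ne_zero h.1, ?_⟩
    rw [one_smul, zero_smul, add_zero]
    refine sing_of_mem_sq _ ((h1 _ 2).1 ?_)
    simpa [hα0] using hα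
  · refine ⟨β 0, -α 0, fun h => hα0 (neg_eq_zero.1 h.2), sing_of_mem_sq _ ((h1 _ 2).1 ?_)⟩
    have : ψ (φ ι j (β 0 • F + -α 0 • G)) = MvPowerSeries.C (β 0) * (ψ (φ ι j F) - ∑ i, MvPowerSeries.C (α i) * MvPowerSeries.X i) -
        MvPowerSeries.C (α 0) * (ψ (φ ι j G) - ∑ i, MvPowerSeries.C (β i) * MvPowerSeries.X i) := by
      simp only [map_add, map_smul, Algebra.smul_def, map_mul, MvPowerSeries.algebraMap_apply, Algebra.algebraMap_self,
        RingHom.id_apply, map_neg, Finset.univ_unique, Fin.default_eq_zero, Finset.sum_singleton, AlgHom.commutes]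
      ring
    rw [this]
    exact sub_mem (Ideal.mul_mem_left _ _ hα) (Ideal.mul_mem_left _ _ hβ)

theorem transversal₂_of_not_bad2 (hn : 1 ≤ n) (hd : 1 ≤ d) (F G : LefPen.Form r k d) (hb : ¬ Bad2 ι F G) :
    LefPen.Transversal k n 2 (LefPen.secToSpec ι ({F, G} : Set (LefPen.Form r k d))) := by
  classical
  let J := LefPen.secIdeal ι ({F, G} : Set (LefPen.Form r k d))
  let W : Fin (r + 1) → X.affineOpens := fun j => ⟨U ι j, isAffineOpen_U ι j⟩
  have key : ∀ j (I : Ideal Γ(X, U ι j)), I = Ideal.span {φ ι j F, φ ι j G} →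
      (SmoothOfRelativeDimension (n - 2) (Spec.map (CommRingCat.ofHom ((Ideal.Quotient.mk I).comp ((π ι j).comp MvPolynomial.C)))) ↔
      SmoothOfRelativeDimension (n - 2)
        (Spec.map (CommRingCat.ofHom (algebraMap k (Γ(X, U ι j) ⧸ Ideal.span {φ ι j F, φ ι j G}))))) := by
    rintro j I rfl
    exact Iff.rfl
  rcases Nat.lt_or_ge n 2 with hlt | hge
  · refine Or.inr ⟨hlt, ⟨fun y₀ => ?_⟩⟩
    let g := LefPen.secToSpec ι ({F, G} : Set (LefPen.Form r k d))
    haveI : JacobsonSpace J.subscheme := LocallyOfFiniteType.jacobsonSpace g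
    obtain ⟨y, -, hy⟩ := nonempty_inter_closedPoints (X := J.subscheme) (Z := Set.univ) ⟨y₀, trivial⟩
      isClosed_univ.isLocallyClosed
    let s := pointOfClosedPoint g y hy
    let q := s ≫ J.subschemeι
    have hq : q ≫ g0 ι = 𝟙 _ := by
      show (s ≫ J.subschemeι) ≫ g0 ι = 𝟙 _
      rw [Category.assoc]; exact pointOfClosedPoint_comp _ _ _
    obtain ⟨j, hj⟩ := exists_mem_U ι (q pt)
    have hI : Ideal.span {φ ι j F, φ ι j G} ≤ RingHom.ker (pA ι q hq j hj).toRingHom := by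
      rw [← mk_ideal_sec₂ ι F G j]
      intro a ha
      by_contra hne
      have hbo : q pt ∈ X.basicOpen a := (pval_basicOpen q _ hj a).2 hne
      have hrange : q pt ∈ Set.range J.subschemeι := ⟨s pt, rfl⟩
      rw [J.range_subschemeι] at hrange
      exact (Scheme.mem_zeroLocus_iff _ _ _).1 ((J.mem_support_iff_of_mem (U := W j) hj).1 hrange) a ha hbo
    exact hb (exists_sing_member ι n (by omega) hd F G q hq j hj (hI (Ideal.subset_span (Or.inl rfl)))
      (hI (Ideal.subset_span (Or.inr rfl))))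
  refine Or.inl ⟨hge, ?_⟩
  show SmoothOfRelativeDimension (n - 2) (J.subschemeι ≫ ι ≫ CohB1.ProjSpace.toSpec r k)
  have e1 : ∀ j, J.subschemeCover.f (W j) ≫ J.subschemeι ≫ ι ≫ CohB1.ProjSpace.toSpec r k =
      Spec.map (CommRingCat.ofHom ((Ideal.Quotient.mk (J.ideal (W j))).comp ((π ι j).comp MvPolynomial.C))) := fun j => by
    rw [← Category.assoc, J.subschemeCover_map_subschemeι, J.glueDataObjι_ι, Category.assoc,
      PlaneTwistLib.fromSpec_comp _ (W j).2, ← Spec.map_comp, π_C]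
    rfl
  let idx : J.subscheme → Fin (r + 1) := fun x => (exists_mem_U ι (J.subschemeι x)).choose
  let 𝒰 : J.subscheme.AffineOpenCover :=
    { I₀ := ULift.{u} (Fin (r + 1))
      X := fun j => .of (Γ(X, (W j.down).1) ⧸ J.ideal (W j.down))
      f := fun j => J.subschemeCover.f (W j.down)
      idx := fun x => ⟨idx x⟩
      covers := fun x => (J.opensRange_subschemeCover_map _).ge (exists_mem_U ι (J.subschemeι x)).choose_spec }
  refine IsZariskiLocalAtSource.of_openCover 𝒰.openCover fun (j : ULift.{u} (Fin (r + 1))) => ?_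
  show SmoothOfRelativeDimension (n - 2) (J.subschemeCover.f (W j.down) ≫ J.subschemeι ≫ ι ≫ CohB1.ProjSpace.toSpec r k)
  rw [e1]
  refine (key j.down _ (mk_ideal_sec₂ ι F G j.down)).2 (S4026.smoothRel_spec _ fun q hq => ?_)
  haveI := smooth_chartRing ι n j.down
  obtain ⟨x, -, -, -, hx⟩ := exists_gens ι (d := d) hd j.down
  haveI : Algebra.FiniteType k Γ(X, U ι j.down) := Algebra.FiniteType.of_surjective _ hx
  let P := q.comap (Ideal.Quotient.mk (Ideal.span {φ ι j.down F, φ ι j.down G}))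
  haveI : P.IsPrime := Ideal.IsPrime.comap _
  obtain ⟨m, hm, hPm⟩ := P.exists_le_maximal (Ideal.IsPrime.ne_top ‹_›)
  obtain ⟨p, hp⟩ := exists_algHom_of_isMaximal (k := k) m
  obtain ⟨q', hq', h', rfl⟩ := exists_point ι j.down p
  have hmem : ∀ a ∈ Ideal.span {φ ι j.down F, φ ι j.down G}, pA ι q' hq' j.down h' a = 0 := fun a ha =>
    RingHom.mem_ker.1 (hp.ge (hPm (by
      show Ideal.Quotient.mk _ a ∈ q
      rw [Ideal.Quotient.eq_zero_iff_mem.2 ha]; exact zero_mem _)))
  have hF := hmem _ (Ideal.subset_span (Or.inl rfl))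
  have hG := hmem _ (Ideal.subset_span (Or.inr rfl))
  obtain ⟨ψ, ψ', hψ⟩ := exists_minor _ hF hG fun a b hab hs => hb ⟨q', hq', j.down, h', hF, hG, a, b, hab, by
    rwa [map_add, map_smul, map_smul]⟩
  exact smooth_cut₂ x hx (hdim_chart ι n j.down) hge _ _ q hq
    ⟨ψ, ψ', fun h => hψ (RingHom.mem_ker.1 (hp.ge (hPm h)))⟩

theorem not_bad2_of_transversal₂ (hd : 1 ≤ d) (F G : LefPen.Form r k d)
    (ht : LefPen.Transversal k n 2 (LefPen.secToSpec ι ({F, G} : Set (LefPen.Form r k d)))) : ¬ Bad2 ι F G := by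
  rintro ⟨q, hq, j, h, hF, hG, a, b, hab, hs⟩
  let J := LefPen.secIdeal ι ({F, G} : Set (LefPen.Form r k d))
  let W : X.affineOpens := ⟨U ι j, isAffineOpen_U ι j⟩
  have hI : J.ideal W = Ideal.span {φ ι j F, φ ι j G} := mk_ideal_sec₂ ι F G j
  rcases ht with ⟨hge, hsm⟩ | ⟨-, he⟩
  · haveI := smooth_chartRing ι n j
    obtain ⟨x, -, -, -, hx⟩ := exists_gens ι (d := d) hd j
    have hchart : SmoothOfRelativeDimension (n - 2)
        (Spec.map (CommRingCat.ofHom (algebraMap k (Γ(X, U ι j) ⧸ Ideal.span {φ ι j F, φ ι j G})))) := by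
      have key : ∀ I : Ideal Γ(X, U ι j), J.ideal W = I →
          SmoothOfRelativeDimension (n - 2) (Spec.map (CommRingCat.ofHom (algebraMap k (Γ(X, U ι j) ⧸ I)))) := by
        rintro I rfl
        have e1 : J.subschemeCover.f W ≫ J.subschemeι ≫ ι ≫ CohB1.ProjSpace.toSpec r k =
            Spec.map (CommRingCat.ofHom (algebraMap k (Γ(X, U ι j) ⧸ J.ideal W))) := by
          rw [← Category.assoc, J.subschemeCover_map_subschemeι, J.glueDataObjι_ι, Category.assoc,
            PlaneTwistLib.fromSpec_comp _ W.2, ← Spec.map_comp, ← BertiniProjLib.π_C]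
          rfl
        rw [← e1]
        exact IsZariskiLocalAtSource.comp (P := @SmoothOfRelativeDimension (n - 2)) hsm _
      exact key _ hI
    rw [map_add, map_smul, map_smul] at hs
    by_cases hb0 : b = 0
    · have ha : a ≠ 0 := fun ha => hab ⟨ha, hb0⟩
      have hs' : Sing (pA ι q hq j h) (φ ι j F) := by
        refine ⟨hF, fun χ => ?_⟩
        have := hs.2 χ
        simp only [hb0, zero_smul, add_zero, Derivation.map_smul, LinearMap.map_smul_of_tower, map_smul, smul_eq_mul] at this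
        exact (mul_eq_zero.1 this).resolve_left ha
      rw [Set.pair_comm] at hchart
      exact not_smooth₂_of_sing x hx (hdim_chart ι n j) hge (φ ι j G) (φ ι j F) _ hG hs' hchart
    · refine not_smooth₂_of_sing x hx (hdim_chart ι n j) hge (φ ι j F) (a • φ ι j F + b • φ ι j G) _ hF hs ?_
      have e : Ideal.span {φ ι j F, a • φ ι j F + b • φ ι j G} = Ideal.span {φ ι j F, φ ι j G} := by
        refine le_antisymm (Ideal.span_le.2 (Set.insert_subset (Ideal.subset_span (Or.inl rfl))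
          (Set.singleton_subset_iff.2 (add_mem (Submodule.smul_of_tower_mem _ a (Ideal.subset_span (Or.inl rfl)))
            (Submodule.smul_of_tower_mem _ b (Ideal.subset_span (Or.inr rfl)))))))
          (Ideal.span_le.2 (Set.insert_subset (Ideal.subset_span (Or.inl rfl)) (Set.singleton_subset_iff.2 ?_)))
        have h1 : b⁻¹ • (a • φ ι j F + b • φ ι j G) - (b⁻¹ * a) • φ ι j F = φ ι j G := by
          rw [smul_add, smul_smul, smul_smul, inv_mul_cancel₀ hb0, one_smul, add_sub_cancel_left]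
        show φ ι j G ∈ Ideal.span {φ ι j F, a • φ ι j F + b • φ ι j G}
        have h2 : b⁻¹ • (a • φ ι j F + b • φ ι j G) - (b⁻¹ * a) • φ ι j F ∈
            Ideal.span {φ ι j F, a • φ ι j F + b • φ ι j G} := sub_mem (Submodule.smul_of_tower_mem _ _ (Ideal.subset_span (Or.inr rfl)))
          (Submodule.smul_of_tower_mem _ _ (Ideal.subset_span (Or.inl rfl)))
        rwa [h1] at h2
      rwa [e]
  · have hsupp : q pt ∈ J.support := by
      refine (J.mem_support_iff_of_mem (U := W) h).2 ((Scheme.mem_zeroLocus_iff _ _ _).2 fun a' ha' hbo => (pval_basicOpen q _ h a').1 hbo ?_)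
      have hle : Ideal.span {φ ι j F, φ ι j G} ≤ RingHom.ker (pA ι q hq j h).toRingHom :=
        Ideal.span_le.2 (Set.insert_subset hF (Set.singleton_subset_iff.2 hG))
      exact hle (hI.le ha')
    obtain ⟨y, -⟩ : q pt ∈ Set.range J.subschemeι := by rw [J.range_subschemeι]; exact hsupp
    exact he.false y

theorem exists_avoid₂ (hd : 1 ≤ d) (v w : LefPen.Form r k d) (hv : ¬ Bad2 ι v w) :
    ∃ f : LefPen.Form r k d × LefPen.Form r k d → k, LefPen.IsPolyFun k f ∧ f (v, w) ≠ 0 ∧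
      ∀ F G, f (F, G) ≠ 0 → ¬ Bad2 ι F G := by
  classical
  let B := Module.finBasis k (LefPen.Form r k d)
  let N := Module.finrank k (LefPen.Form r k d)
  let L : LefPen.Form r k d × LefPen.Form r k d →ₗ[k] (Fin (N + N) → k) :=
    LinearMap.pi fun i => Fin.addCases (fun a => (LinearMap.proj a).comp (B.equivFun.toLinearMap.comp (LinearMap.fst k _ _)))
      (fun a => (LinearMap.proj a).comp (B.equivFun.toLinearMap.comp (LinearMap.snd k _ _))) i
  have hL1 : ∀ F G a, L (F, G) (Fin.castAdd N a) = B.equivFun F a := fun F G a => by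
    simp only [L, LinearMap.pi_apply, Fin.addCases_left]; rfl
  have hL2 : ∀ F G a, L (F, G) (Fin.natAdd N a) = B.equivFun G a := fun F G a => by
    simp only [L, LinearMap.pi_apply, Fin.addCases_right]; rfl
  haveI : LocallyOfFiniteType (τ k (N + N)) := by
    rw [HasRingHomProperty.Spec_iff (P := @LocallyOfFiniteType), CommRingCat.hom_ofHom, ← MvPolynomial.algebraMap_eq,
      RingHom.finiteType_algebraMap]
    infer_instance
  let Y := pullback (g0 ι) (τ k (N + N))
  let fst : Y ⟶ X := pullback.fst (g0 ι) (τ k (N + N))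
  let snd : Y ⟶ Spec (CommRingCat.of (MvPolynomial (Fin (N + N)) k)) := pullback.snd (g0 ι) (τ k (N + N))
  haveI : IsProper (g0 ι) := inferInstance
  haveI : UniversallyClosed snd := inferInstance
  haveI : LocallyOfFiniteType (snd ≫ τ k (N + N)) := inferInstance
  haveI : JacobsonSpace Y := LocallyOfFiniteType.jacobsonSpace (snd ≫ τ k (N + N))
  let BS : Set Y := {y | ∃ (q : Spec (CommRingCat.of k) ⟶ X) (hq : q ≫ g0 ι = 𝟙 _) (F G : LefPen.Form r k d)
    (j : Fin (r + 1)) (h : q pt ∈ U ι j), pA ι q hq j h (φ ι j F) = 0 ∧ pA ι q hq j h (φ ι j G) = 0 ∧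
      (∃ a b : k, ¬ (a = 0 ∧ b = 0) ∧ Sing (pA ι q hq j h) (φ ι j (a • F + b • G))) ∧
      y = pullback.lift q (LefDualLib.ev (L (F, G))) (hq.trans (ev_τ _).symm) pt}
  let C : Set _ := snd '' closure BS
  have hC : IsClosed C := snd.isClosedMap _ isClosed_closure
  have hvC : LefDualLib.ev (L (v, w)) pt ∉ C := by
    intro hmem
    let Fs : Set Y := closure BS ∩ snd ⁻¹' {LefDualLib.ev (L (v, w)) pt}
    have hFc : IsClosed Fs := isClosed_closure.inter (((pointEquivClosedPoint (τ k (N + N)))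
      ⟨LefDualLib.ev (L (v, w)), ev_τ _⟩).2.preimage snd.continuous)
    obtain ⟨y0, hy0, hy0'⟩ := hmem
    obtain ⟨y, ⟨hyB, hyv⟩, hyc⟩ := nonempty_inter_closedPoints (Z := Fs) ⟨y0, hy0, hy0'⟩ hFc.isLocallyClosed
    let s := pointOfClosedPoint (snd ≫ τ k (N + N)) y hyc
    have hs : s ≫ snd ≫ τ k (N + N) = 𝟙 _ := pointOfClosedPoint_comp _ _ _
    have hsy : s pt = y := pointOfClosedPoint_apply _ _ _ _
    let q := s ≫ fst
    have hq : q ≫ g0 ι = 𝟙 _ := by
      show (s ≫ pullback.fst (g0 ι) (τ k (N + N))) ≫ g0 ι = 𝟙 _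
      rw [Category.assoc, pullback.condition]
      exact hs
    have hsnd : s ≫ snd = LefDualLib.ev (L (v, w)) :=
      ext_of_apply_closedPoint_eq (τ k (N + N)) (by rw [Category.assoc]; exact hs) (ev_τ _) (by
        show snd (s pt) = _
        rw [hsy]; exact hyv)
    obtain ⟨j, hj⟩ := exists_mem_U ι (q pt)
    haveI := smooth_chartRing ι n j
    let cc : LefPen.Form r k d → Option (Fin N) → k := fun F o => o.elim 1 (B.equivFun F)
    -- polynomial functions of the pair with values in the chart, vanishing at the bad triples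
    have key : ∀ (Φ : LefPen.Form r k d → LefPen.Form r k d → Γ(X, U ι j)) (e : Option (Fin N) → Option (Fin N) → Γ(X, U ι j)),
        (∀ F G, Φ F G = ∑ o, ∑ o', (cc F o * cc G o') • e o o') →
        (∀ (q' : Spec (CommRingCat.of k) ⟶ X) (hq' : q' ≫ g0 ι = 𝟙 _) (h' : q' pt ∈ U ι j) (F G : LefPen.Form r k d),
          pA ι q' hq' j h' (φ ι j F) = 0 → pA ι q' hq' j h' (φ ι j G) = 0 →
          (∃ a b : k, ¬ (a = 0 ∧ b = 0) ∧ Sing (pA ι q' hq' j h') (φ ι j (a • F + b • G))) →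
          pA ι q' hq' j h' (Φ F G) = 0) →
        pA ι q hq j hj (Φ v w) = 0 := by
      intro Φ e hΦ hvan
      let Tv : Fin (N + N) → Γ(Y, fst ⁻¹ᵁ U ι j) := fun i =>
        Y.presheaf.map (homOfLE (le_top : fst ⁻¹ᵁ U ι j ≤ ⊤)).op (Coh.toGlobal snd (MvPolynomial.X i))
      let t1 : Option (Fin N) → Γ(Y, fst ⁻¹ᵁ U ι j) := fun o => o.elim 1 fun a => Tv (Fin.castAdd N a)
      let t2 : Option (Fin N) → Γ(Y, fst ⁻¹ᵁ U ι j) := fun o => o.elim 1 fun a => Tv (Fin.natAdd N a)
      let σ : Γ(Y, fst ⁻¹ᵁ U ι j) := ∑ o, ∑ o', fst.app (U ι j) (e o o') * (t1 o * t2 o')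
      have hval : ∀ (z : Spec (CommRingCat.of k) ⟶ Y) (F G : LefPen.Form r k d) (hz : z pt ∈ fst ⁻¹ᵁ U ι j)
          (hz1 : (z ≫ fst) ≫ g0 ι = 𝟙 _), z ≫ snd = LefDualLib.ev (L (F, G)) →
          pval z (fst ⁻¹ᵁ U ι j) hz σ = pA ι (z ≫ fst) hz1 j hz (Φ F G) := by
        intro z F G hz hz1 hz2
        have hT : ∀ i, pval z (fst ⁻¹ᵁ U ι j) hz (Tv i) = L (F, G) i := fun i =>
          (pval_res z le_top hz _).trans ((pval_toGlobal z snd (MvPolynomial.eval (L (F, G))) hz2 _).trans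
            (MvPolynomial.eval_X i))
        have ht1 : ∀ o, pval z (fst ⁻¹ᵁ U ι j) hz (t1 o) = cc F o := by
          rintro (_ | a)
          · exact map_one _
          · exact (hT _).trans (hL1 F G a)
        have ht2 : ∀ o, pval z (fst ⁻¹ᵁ U ι j) hz (t2 o) = cc G o := by
          rintro (_ | a)
          · exact map_one _
          · exact (hT _).trans (hL2 F G a)
        rw [hΦ, map_sum, map_sum]
        refine Finset.sum_congr rfl fun o _ => ?_
        rw [map_sum, map_sum]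
        refine Finset.sum_congr rfl fun o' _ => ?_
        rw [map_mul, map_mul, ht1, ht2, map_smul, smul_eq_mul, mul_comm (cc F o * cc G o')]
        exact congrArg (· * (cc F o * cc G o')) (pval_comp z fst _ hz _)
      by_contra hne
      have hsj : s pt ∈ fst ⁻¹ᵁ U ι j := hj
      have hyO : y ∈ Y.basicOpen σ := by
        rw [← hsy]
        refine (pval_basicOpen s _ hsj σ).2 ?_
        rw [hval s v w hsj hq hsnd]
        exact hne
      obtain ⟨y', hy'O, q', hq', F, G, j', h', hF, hG, ⟨a, b, hab, hsing⟩, rfl⟩ :=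
        mem_closure_iff.1 hyB _ (Y.basicOpen σ).isOpen hyO
      let z := pullback.lift (f := g0 ι) (g := τ k (N + N)) q' (LefDualLib.ev (L (F, G))) (hq'.trans (ev_τ _).symm)
      have hz' : z pt ∈ fst ⁻¹ᵁ U ι j := Y.basicOpen_le σ hy'O
      have hzf : z ≫ fst = q' := pullback.lift_fst _ _ _
      have h1 : q' pt ∈ U ι j := by rw [← hzf]; exact hz'
      refine (pval_basicOpen z _ hz' σ).1 hy'O ?_
      rw [hval z F G hz' (by rw [hzf]; exact hq') (pullback.lift_snd _ _ _)]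
      haveI := smooth_chartRing ι n j'
      refine (pval_congr (U := U ι j) hzf hz' (Φ F G)).trans ?_
      exact hvan q' hq' h1 F G (zero_chart ι F q' hq' j' j h' h1 hF) (zero_chart ι G q' hq' j' j h' h1 hG)
        ⟨a, b, hab, sing_chart ι _ q' hq' j' j h' h1 hsing⟩
    have hsum : ∀ (Λ : LefPen.Form r k d →ₗ[k] Γ(X, U ι j)) F, ∑ a, B.equivFun F a • Λ (B a) = Λ F := fun Λ F => by
      conv_rhs => rw [← B.sum_equivFun F, map_sum]
      exact Finset.sum_congr rfl fun i _ => (map_smul _ _ _).symm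
    have hF0 : pA ι q hq j hj (φ ι j v) = 0 := key (fun F _ => φ ι j F)
      (fun o o' => o'.elim (o.elim 0 fun a => φ ι j (B a)) fun _ => 0)
      (fun F G => by simp [Fintype.sum_option, cc]; exact (hsum _ F).symm) fun _ _ _ _ _ h _ _ => h
    have hG0 : pA ι q hq j hj (φ ι j w) = 0 := key (fun _ G => φ ι j G)
      (fun o o' => o.elim (o'.elim 0 fun a => φ ι j (B a)) fun _ => 0)
      (fun F G => by simp [Fintype.sum_option, cc]; exact (hsum _ G).symm) fun _ _ _ _ _ _ h _ => h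
    by_cases hcon : ∀ a b : k, ¬ (a = 0 ∧ b = 0) → ¬ Sing (pA ι q hq j hj) (a • φ ι j v + b • φ ι j w)
    swap
    · push Not at hcon
      obtain ⟨a, b, hab, hsing⟩ := hcon
      exact hv ⟨q, hq, j, hj, hF0, hG0, a, b, fun h => hab h.1 h.2, by rwa [map_add, map_smul, map_smul]⟩
    obtain ⟨ψ, ψ', hψ⟩ := exists_minor _ hF0 hG0 hcon
    refine hψ ?_
    let l : (Ω[Γ(X, U ι j)⁄k] →ₗ[Γ(X, U ι j)] Γ(X, U ι j)) → (LefPen.Form r k d →ₗ[k] Γ(X, U ι j)) := fun χ =>
      (χ.restrictScalars k).comp ((D k Γ(X, U ι j)).toLinearMap.comp (φ ι j))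
    refine key (fun F G => l ψ F * l ψ' G - l ψ' F * l ψ G)
      (fun o o' => o.elim 0 fun a => o'.elim 0 fun a' => l ψ (B a) * l ψ' (B a') - l ψ' (B a) * l ψ (B a'))
      (fun F G => ?_) fun q' hq' h' F G _ _ ⟨a, b, hab, hsing⟩ => ?_
    · exact minor_expand B (l ψ) (l ψ') F G
    · rw [map_add, map_smul, map_smul] at hsing
      exact minor_eq_zero_of_sing _ hab hsing ψ ψ'
  obtain ⟨-, ⟨Q, rfl⟩, hQv, hQC⟩ :=
    PrimeSpectrum.isTopologicalBasis_basic_opens.exists_subset_of_mem_open hvC hC.isOpen_compl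
  refine ⟨fun P => MvPolynomial.eval (L P) Q, S4026.isPolyFun_eval L Q,
    (mem_basicOpen_ev (L (v, w)) Q).1 hQv, fun F G hFG hbad => ?_⟩
  obtain ⟨q, hq, j, h, hF, hG, hs⟩ := hbad
  refine hQC ((mem_basicOpen_ev (L (F, G)) Q).2 hFG) ⟨pullback.lift q (LefDualLib.ev (L (F, G))) (hq.trans (ev_τ _).symm) pt,
    subset_closure ⟨q, hq, F, G, j, h, hF, hG, hs, rfl⟩, ?_⟩
  show (pullback.lift q (LefDualLib.ev (L (F, G))) _ ≫ snd) pt = _
  rw [pullback.lift_snd]

end Groth.Agent.PencilLib
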