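import Groth.Agent.PencilLib.Line
import Groth.Agent.PencilLib.Sec2
import Groth.Agent.OdpLib.Open

/-!
# Lefschetz pencils form an open set
-/

set_option autoImplicit false
set_option maxHeartbeats 1000000
set_option backward.isDefEq.respectTransparency false
set_option backward.isDefEq.respectTransparency.types false
set_option linter.style.haveILetI false
universe u
open CategoryTheory CategoryTheory.Limits AlgebraicGeometry TopologicalSpace
open Groth.Agent.AmpleEmb Groth.Agent.BertiniProjLib Groth.Agent.LefDualLib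

noncomputable section

namespace Groth.Agent.PencilLib

variable {k : Type u} [Field k]

theorem exists_poly_of_isPolyFun {V : Type u} [AddCommGroup V] [Module k V] {N : ℕ} (B : Module.Basis (Fin N) k V)
    {f : V → k} (hf : LefPen.IsPolyFun k f) :
    ∃ P : MvPolynomial (Fin N) k, ∀ x, f x = MvPolynomial.eval (B.equivFun x) P := by
  refine Algebra.adjoin_induction ?_ ?_ ?_ ?_ hf
  · rintro _ ⟨l, rfl⟩
    refine ⟨∑ i, MvPolynomial.C (l (B i)) * MvPolynomial.X i, fun x => ?_⟩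
    conv_lhs => rw [← B.sum_equivFun x]
    simp only [map_sum, map_smul, map_mul, MvPolynomial.eval_C, MvPolynomial.eval_X, smul_eq_mul]
    exact Finset.sum_congr rfl fun i _ => mul_comm _ _
  · exact fun c => ⟨MvPolynomial.C c, fun x => (MvPolynomial.eval_C c).symm⟩
  · rintro f g - - ⟨P, hP⟩ ⟨Q, hQ⟩
    exact ⟨P + Q, fun x => by rw [map_add, ← hP, ← hQ]; rfl⟩
  · rintro f g - - ⟨P, hP⟩ ⟨Q, hQ⟩
    exact ⟨P * Q, fun x => by rw [map_mul, ← hP, ← hQ]; rfl⟩

/-- Lines avoiding a cone, in coordinate-free form. -/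
theorem exists_line_fun [IsAlgClosed k] {V : Type u} [AddCommGroup V] [Module k V] [Module.Finite k V] (S : Set V)
    (hcone : ∀ c : k, c ≠ 0 → ∀ x ∈ S, c • x ∈ S) (v w : V)
    (hav : ∀ a b : k, ¬ (a = 0 ∧ b = 0) →
      ∃ f : V → k, LefPen.IsPolyFun k f ∧ f (a • v + b • w) ≠ 0 ∧ ∀ x ∈ S, f x = 0) :
    ∃ g : V × V → k, LefPen.IsPolyFun k g ∧ g (v, w) ≠ 0 ∧
      ∀ v' w', g (v', w') ≠ 0 → ∀ a b : k, ¬ (a = 0 ∧ b = 0) → a • v' + b • w' ∉ S := by
  classical
  let B := Module.finBasis k V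
  let N := Module.finrank k V
  obtain ⟨Q, hQ, hQS⟩ := exists_line_poly (B.equivFun '' S) (fun c hc x ⟨y, hy, e⟩ =>
    ⟨c • y, hcone c hc y hy, by rw [map_smul, e]⟩) (B.equivFun v) (B.equivFun w) (fun a b hab => by
    obtain ⟨f, hf, hfv, hfS⟩ := hav a b hab
    obtain ⟨P, hP⟩ := exists_poly_of_isPolyFun B hf
    refine ⟨P, ?_, ?_⟩
    · rw [← map_smul, ← map_smul, ← map_add, ← hP]; exact hfv
    · rintro _ ⟨x, hx, rfl⟩
      rw [← hP]; exact hfS x hx)
  let L : V × V →ₗ[k] (Fin (N + N) → k) := LinearMap.pi fun i => Fin.addCases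
    (fun a => (LinearMap.proj a).comp (B.equivFun.toLinearMap.comp (LinearMap.fst k _ _)))
    (fun a => (LinearMap.proj a).comp (B.equivFun.toLinearMap.comp (LinearMap.snd k _ _))) i
  have hL : ∀ v' w', (L (v', w')) ∘ finSumFinEquiv = Sum.elim (B.equivFun v') (B.equivFun w') := fun v' w' => by
    funext i
    rcases i with a | a
    · simp only [Function.comp_apply, finSumFinEquiv_apply_left, L, LinearMap.pi_apply, Fin.addCases_left]; rfl
    · simp only [Function.comp_apply, finSumFinEquiv_apply_right, L, LinearMap.pi_apply, Fin.addCases_right]; rfl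
  refine ⟨fun P => MvPolynomial.eval (L P) (MvPolynomial.rename finSumFinEquiv Q), S4026.isPolyFun_eval L _, ?_,
    fun v' w' h a b hab hmem => ?_⟩
  · show MvPolynomial.eval (L (v, w)) _ ≠ 0
    rw [MvPolynomial.eval_rename, hL]; exact hQ
  · simp only [MvPolynomial.eval_rename, hL] at h
    exact hQS _ _ h a b hab ⟨_, hmem, by rw [map_add, map_smul, map_smul]⟩

theorem finite_line_zero {V : Type u} [AddCommGroup V] [Module k V] [Module.Finite k V] {f : V → k}
    (hf : LefPen.IsPolyFun k f) (v w : V) (c₀ : k) (h : f (v + c₀ • w) ≠ 0) :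
    {c : k | f (v + c • w) = 0}.Finite := by
  classical
  let B := Module.finBasis k V
  obtain ⟨P, hP⟩ := exists_poly_of_isPolyFun B hf
  let p : Polynomial k := MvPolynomial.aeval
    (fun i => Polynomial.C (B.equivFun v i) + Polynomial.C (B.equivFun w i) * Polynomial.X) P
  have hp : ∀ c, p.eval c = f (v + c • w) := fun c => by
    rw [hP, map_add, map_smul]
    have key : ∀ Q : MvPolynomial (Fin (Module.finrank k V)) k, Polynomial.eval c (MvPolynomial.aeval
        (fun i => Polynomial.C (B.equivFun v i) + Polynomial.C (B.equivFun w i) * Polynomial.X) Q) =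
          MvPolynomial.eval (B.equivFun v + c • B.equivFun w) Q := by
      intro Q
      induction Q using MvPolynomial.induction_on with
      | C a => simp
      | add Q Q' hQ hQ' => rw [map_add, map_add, Polynomial.eval_add, hQ, hQ']
      | mul_X Q i hQ =>
        simp only [map_mul, Polynomial.eval_mul, hQ, MvPolynomial.aeval_X, MvPolynomial.eval_X, Polynomial.eval_add,
          Polynomial.eval_C, Polynomial.eval_X, Pi.add_apply, Pi.smul_apply, smul_eq_mul]
        ring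
    exact key P
  refine (Polynomial.finite_setOf_isRoot (p := p) fun h0 => h ?_).subset fun c hc => (hp c).trans hc
  rw [← hp, h0, Polynomial.eval_zero]

theorem isPolyFun_comp {V W : Type u} [AddCommGroup V] [Module k V] [AddCommGroup W] [Module k W] {f : W → k}
    (hf : LefPen.IsPolyFun k f) (l : V →ₗ[k] W) : LefPen.IsPolyFun k fun x => f (l x) := by
  refine Algebra.adjoin_induction ?_ ?_ ?_ ?_ hf
  · rintro _ ⟨m, rfl⟩
    exact Algebra.subset_adjoin ⟨m.comp l, rfl⟩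
  · exact fun c => Subalgebra.algebraMap_mem _ c
  · exact fun f g _ _ hf hg => Subalgebra.add_mem _ hf hg
  · exact fun f g _ _ hf hg => Subalgebra.mul_mem _ hf hg

theorem isPolyFun_mul {V : Type u} [AddCommGroup V] [Module k V] {f g : V → k} (hf : LefPen.IsPolyFun k f)
    (hg : LefPen.IsPolyFun k g) : LefPen.IsPolyFun k (f * g) :=
  Subalgebra.mul_mem _ hf hg

variable {r d : ℕ} {X : Scheme.{u}} (ι : X ⟶ CohB1.ProjSpace r k) [IsClosedImmersion ι]

theorem secIdeal_smul (G : LefPen.Form r k d) {c : k} (hc : c ≠ 0) :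
    LefPen.secIdeal ι ({c • G} : Set (LefPen.Form r k d)) = LefPen.secIdeal ι ({G} : Set (LefPen.Form r k d)) := by
  refine Scheme.IdealSheafData.ext_of_iSup_eq_top
    (fun j : Fin (r + 1) => (⟨U ι j, isAffineOpen_U ι j⟩ : X.affineOpens)) ?_ fun j => ?_
  · refine top_le_iff.1 fun x _ => ?_
    obtain ⟨j, hj⟩ := exists_mem_U ι x
    exact Opens.mem_iSup.2 ⟨j, hj⟩
  · rw [mk_ideal_sec, mk_ideal_sec, map_smul, Algebra.smul_def,
      Ideal.span_singleton_mul_left_unit ((isUnit_iff_ne_zero.2 hc).map _)]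

theorem oneOrdQuad_smul (m : ℕ) (G : LefPen.Form r k d) {c : k} (hc : c ≠ 0) (h : LefPen.OneOrdQuad k m ι G) :
    LefPen.OneOrdQuad k m ι (c • G) := by
  let P : X.IdealSheafData → Prop := fun J => ∃ y : J.subscheme,
    {y' | LefPen.SmoothAt (J.subschemeι ≫ ι ≫ CohB1.ProjSpace.toSpec r k) y'} = ({y}ᶜ : Set J.subscheme) ∧
      LefPen.IsOrdQuadSing k (m - 1) (J.subschemeι ≫ ι ≫ CohB1.ProjSpace.toSpec r k) y
  show P (LefPen.secIdeal ι ({c • G} : Set (LefPen.Form r k d)))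
  rw [secIdeal_smul ι G hc]
  exact h

theorem exists_indep_poly [IsAlgClosed k] (F₀ G₀ : LefPen.Form r k d) (hli : LinearIndependent k ![F₀, G₀]) :
    ∃ g : LefPen.Form r k d × LefPen.Form r k d → k, LefPen.IsPolyFun k g ∧ g (F₀, G₀) ≠ 0 ∧
      ∀ F G, g (F, G) ≠ 0 → LinearIndependent k ![F, G] := by
  obtain ⟨g, hg, hgv, hgS⟩ := exists_line_fun (k := k) ({0} : Set (LefPen.Form r k d))
    (fun (c : k) _ x hx => by rw [Set.mem_singleton_iff.1 hx]; exact smul_zero c) F₀ G₀ (fun a b hab => by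
    have hne : a • F₀ + b • G₀ ≠ 0 := fun h => hab (LinearIndependent.pair_iff.1 hli a b h)
    let B := Module.finBasis k (LefPen.Form r k d)
    obtain ⟨i, hi⟩ : ∃ i, B.equivFun (a • F₀ + b • G₀) i ≠ 0 := by
      by_contra! h
      exact hne (B.equivFun.injective (by rw [map_zero]; exact funext h))
    exact ⟨fun x => (((LinearMap.proj i).comp B.equivFun.toLinearMap : Module.Dual k (LefPen.Form r k d))) x,
      Algebra.subset_adjoin ⟨_, rfl⟩, hi, fun x hx => by rw [Set.mem_singleton_iff.1 hx]; exact map_zero _⟩)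
  exact ⟨g, hg, hgv, fun F G hFG => LinearIndependent.pair_iff.2 fun a b h =>
    by_contra fun hab => hgS F G hFG a b hab h⟩

theorem bad_smul (G : LefPen.Form r k d) {c : k} (hc : c ≠ 0) (h : Bad ι G) : Bad ι (c • G) := by
  obtain ⟨q, hq, j, hj, h0, hψ⟩ := h
  exact ⟨q, hq, j, hj, by rw [map_smul, map_smul, h0, smul_zero], fun ψ => by
    rw [map_smul, Derivation.map_smul, LinearMap.map_smul_of_tower, map_smul, hψ ψ, smul_zero]⟩

variable [IsAlgClosed k] (n : ℕ) [SmoothOfRelativeDimension (n + 1) (ι ≫ CohB1.ProjSpace.toSpec r k)] [IsIntegral X]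
include n

section
attribute [local irreducible] LefDualLib.Bad LefPen.OneOrdQuad

theorem exists_members_poly (hd : 1 ≤ d) (F₀ G₀ : LefPen.Form r k d)
    (hmem : ∀ H ∈ LefPen.members k F₀ G₀, Bad ι H → LefPen.OneOrdQuad k (n + 1) ι H) :
    ∃ g : LefPen.Form r k d × LefPen.Form r k d → k, LefPen.IsPolyFun k g ∧ g (F₀, G₀) ≠ 0 ∧
      ∀ F G, g (F, G) ≠ 0 → ∀ a b : k, ¬ (a = 0 ∧ b = 0) → Bad ι (a • F + b • G) →
        LefPen.OneOrdQuad k (n + 1) ι (a • F + b • G) := by
  let Z : Set (LefPen.Form r k d) := {H | Bad ι H ∧ ¬ LefPen.OneOrdQuad k (n + 1) ι H}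
  have hcone : ∀ c : k, c ≠ 0 → ∀ x ∈ Z, c • x ∈ Z := fun c hc x hx =>
    ⟨bad_smul ι x hc hx.1, fun h => hx.2 (by
      have := oneOrdQuad_smul ι (n + 1) (c • x) (inv_ne_zero hc) h
      rwa [smul_smul, inv_mul_cancel₀ hc, one_smul] at this)⟩
  have hone : ∀ (c : k) (m : LefPen.Form r k d), c ≠ 0 → m ∈ LefPen.members k F₀ G₀ →
      ∃ f : LefPen.Form r k d → k, LefPen.IsPolyFun k f ∧ f (c • m) ≠ 0 ∧ ∀ x ∈ Z, f x = 0 := by
    intro c m hc hm
    by_cases hb : Bad ι m
    · obtain ⟨f, hf, hfv, hfS⟩ := OdpLib.exists_open_oneOrdQuad ι n hd (c • m)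
        (oneOrdQuad_smul ι (n + 1) m hc (hmem m hm hb))
      exact ⟨f, hf, hfv, fun x hx => by_contra fun hne => hx.2 (hfS x hne hx.1)⟩
    · obtain ⟨f, hf, hfv, hfS⟩ := exists_avoid ι (n + 1) hd (c • m) (fun h => hb (by
        have := bad_smul ι (c • m) (inv_ne_zero hc) h
        rwa [smul_smul, inv_mul_cancel₀ hc, one_smul] at this))
      exact ⟨f, hf, hfv, fun x hx => by_contra fun hne => hfS x hne hx.1⟩
  obtain ⟨g, hg, hgv, hgS⟩ := exists_line_fun (k := k) Z hcone F₀ G₀ (fun a b hab => by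
    by_cases ha : a = 0
    · have := hone b G₀ (fun hb => hab ⟨ha, hb⟩) (Or.inl rfl)
      rwa [ha, zero_smul, zero_add]
    · have := hone a (F₀ + (a⁻¹ * b) • G₀) ha (Or.inr ⟨_, rfl⟩)
      rwa [smul_add, smul_smul, ← mul_assoc, mul_inv_cancel₀ ha, one_mul] at this)
  exact ⟨g, hg, hgv, fun F G hFG a b hab hbad => by_contra fun hno => hgS F G hFG a b hab ⟨hbad, hno⟩⟩

end

theorem isZOpen_pencil (hd : 1 ≤ d) :
    LefPen.IsZOpen k {FG : LefPen.Form r k d × LefPen.Form r k d |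
      LefPen.IsLefschetzPencil k (n + 1) ι d FG.1 FG.2} := by
  rintro ⟨F₀, G₀⟩ hFG₀
  have hP : LefPen.IsLefschetzPencil k (n + 1) ι d F₀ G₀ := hFG₀
  obtain ⟨hli, hbase, hfin, hmem⟩ := hP
  have hiff := not_transversal_iff (d := d) ι (n + 1) (by omega) hd
  obtain ⟨g₁, hg₁, hg₁v, hg₁S⟩ := exists_indep_poly F₀ G₀ hli
  obtain ⟨g₂, hg₂, hg₂v, hg₂S⟩ := exists_avoid₂ ι (n + 1) hd F₀ G₀ (not_bad2_of_transversal₂ ι (n + 1) hd F₀ G₀ hbase)
  haveI : Infinite k := IsAlgClosed.instInfinite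
  obtain ⟨c₀, hc₀⟩ := hfin.infinite_compl.nonempty
  have hc₀' : ¬ Bad ι (F₀ + c₀ • G₀) := fun h => hc₀ ((hiff _).2 h)
  obtain ⟨f₀, hf₀, hf₀v, hf₀S⟩ := exists_avoid ι (n + 1) hd _ hc₀'
  obtain ⟨g₃, hg₃, hg₃v, hg₃S⟩ := exists_members_poly ι n hd F₀ G₀ fun H hH hb => hmem H hH ((hiff H).2 hb)
  let l : LefPen.Form r k d × LefPen.Form r k d →ₗ[k] LefPen.Form r k d :=
    LinearMap.fst k _ _ + c₀ • LinearMap.snd k _ _
  have hl : ∀ F G, l (F, G) = F + c₀ • G := fun F G => rfl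
  refine ⟨g₁ * g₂ * g₃ * fun P => f₀ (l P), isPolyFun_mul (isPolyFun_mul (isPolyFun_mul hg₁ hg₂) hg₃)
    (isPolyFun_comp hf₀ l), ?_, ?_⟩
  · simp only [Pi.mul_apply, hl]
    exact mul_ne_zero (mul_ne_zero (mul_ne_zero hg₁v hg₂v) hg₃v) hf₀v
  rintro ⟨F, G⟩ hFG
  simp only [Pi.mul_apply, hl, mul_ne_zero_iff] at hFG
  obtain ⟨⟨⟨h1, h2⟩, h3⟩, h4⟩ := hFG
  show LefPen.IsLefschetzPencil k (n + 1) ι d F G
  refine ⟨hg₁S F G h1, transversal₂_of_not_bad2 ι (n + 1) (by omega) hd F G (hg₂S F G h2), ?_, fun H hH hnt => ?_⟩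
  · refine (finite_line_zero hf₀ F G c₀ h4).subset fun c hc => by_contra fun hne => ?_
    exact hf₀S _ hne ((hiff _).1 hc)
  · have hb := (hiff H).1 hnt
    rcases hH with hH | ⟨c, rfl⟩
    · rw [Set.mem_singleton_iff.1 hH] at hb ⊢
      have := hg₃S F G h3 0 1 (fun h => one_ne_zero h.2)
      rw [zero_smul, one_smul, zero_add] at this
      exact this hb
    · have := hg₃S F G h3 1 c (fun h => one_ne_zero h.1)
      rw [one_smul] at this
      exact this hb

end Groth.Agent.PencilLib
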