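import Groth.Agent.PencilLib.Through
import Groth.Agent.PencilLib.BaseGen

/-!
# Lefschetz pencils through a transversal form
-/

set_option autoImplicit false
set_option maxHeartbeats 1000000
set_option backward.isDefEq.respectTransparency false
set_option backward.isDefEq.respectTransparency.types false
set_option linter.style.haveILetI false
universe u
open CategoryTheory CategoryTheory.Limits AlgebraicGeometry TopologicalSpace
open Groth.Agent.AmpleEmb Groth.Agent.BertiniProjLib Groth.Agent.LefDualLib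

noncomputable section

namespace Groth.Agent.PencilLib

variable {k : Type u} [Field k]

theorem isPolyFun_pair {V W : Type u} [AddCommGroup V] [Module k V] [AddCommGroup W] [Module k W] {f : V × W → k}
    (hf : LefPen.IsPolyFun k f) (v : V) : LefPen.IsPolyFun k fun w => f (v, w) := by
  refine Algebra.adjoin_induction ?_ ?_ ?_ ?_ hf
  · rintro _ ⟨m, rfl⟩
    have e : (fun w => m (v, w)) = algebraMap k (W → k) (m (v, 0)) + fun w => (m.comp (LinearMap.inr k V W)) w := by
      funext w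
      show m (v, w) = m (v, 0) + m (0, w)
      rw [← map_add, Prod.mk_add_mk, add_zero, zero_add]
    show _ ∈ _
    rw [e]
    exact Subalgebra.add_mem _ (Subalgebra.algebraMap_mem _ _) (Algebra.subset_adjoin ⟨_, rfl⟩)
  · exact fun c => Subalgebra.algebraMap_mem _ c
  · exact fun f g _ _ hf hg => Subalgebra.add_mem _ hf hg
  · exact fun f g _ _ hf hg => Subalgebra.mul_mem _ hf hg

variable [IsAlgClosed k] {r d : ℕ} {X : Scheme.{u}} (ι : X ⟶ CohB1.ProjSpace r k) [IsClosedImmersion ι]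
  (n : ℕ) [SmoothOfRelativeDimension (n + 1) (ι ≫ CohB1.ProjSpace.toSpec r k)] [IsIntegral X]
include n

theorem bad_zero : Bad ι (0 : LefPen.Form r k d) := by
  obtain ⟨x⟩ : Nonempty X := inferInstance
  haveI : JacobsonSpace X := LocallyOfFiniteType.jacobsonSpace (g0 ι)
  obtain ⟨y, -, hy⟩ := nonempty_inter_closedPoints (X := X) (Z := Set.univ) ⟨x, trivial⟩
    isClosed_univ.isLocallyClosed
  obtain ⟨j, hj⟩ := exists_mem_U ι (pointOfClosedPoint (g0 ι) y hy pt)
  refine ⟨_, pointOfClosedPoint_comp _ _ _, j, hj, ?_⟩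
  rw [map_zero]
  exact ⟨map_zero _, fun ψ => by rw [map_zero, map_zero, map_zero]⟩

section
attribute [local irreducible] LefDualLib.Bad LefPen.OneOrdQuad LefPen.Transversal Bad2

theorem exists_members_through (hd : 1 ≤ d) (H F₀ G₀ : LefPen.Form r k d) (hH : ¬ Bad ι H)
    (hmem : ∀ M ∈ LefPen.members k F₀ G₀, Bad ι M → LefPen.OneOrdQuad k (n + 1) ι M) :
    ∃ G, ∀ M ∈ LefPen.members k H G, Bad ι M → LefPen.OneOrdQuad k (n + 1) ι M := by
  let Z : Set (LefPen.Form r k d) := {M | Bad ι M ∧ ¬ LefPen.OneOrdQuad k (n + 1) ι M}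
  have hcone : ∀ c : k, c ≠ 0 → ∀ x ∈ Z, c • x ∈ Z := fun c hc x hx =>
    ⟨bad_smul ι x hc hx.1, fun h => hx.2 (by
      have := oneOrdQuad_smul ι (n + 1) (c • x) (inv_ne_zero hc) h
      rwa [smul_smul, inv_mul_cancel₀ hc, one_smul] at this)⟩
  have hone : ∀ (c : k) (m : LefPen.Form r k d), c ≠ 0 → m ∈ LefPen.members k F₀ G₀ →
      ∃ f : LefPen.Form r k d → k, LefPen.IsPolyFun k f ∧ f (c • m) ≠ 0 ∧ ∀ x ∈ Z, f x = 0 := by
    intro c m hc hm
    by_cases hb : Bad ι m
    · obtain ⟨f, hf, hfv, hfS⟩ := OdpLib.exists_open_oneOrdQuad ι n hd (c • m)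
        (oneOrdQuad_smul ι (n + 1) m hc (hmem m hm hb))
      exact ⟨f, hf, hfv, fun x hx => by_contra fun hne => hx.2 (hfS x hne hx.1)⟩
    · obtain ⟨f, hf, hfv, hfS⟩ := exists_avoid ι (n + 1) hd (c • m) (fun h => hb (by
        have := bad_smul ι (c • m) (inv_ne_zero hc) h
        rwa [smul_smul, inv_mul_cancel₀ hc, one_smul] at this))
      exact ⟨f, hf, hfv, fun x hx => by_contra fun hne => hfS x hne hx.1⟩
  obtain ⟨G, hG⟩ := exists_line_through (k := k) Z hcone H F₀ G₀ (fun a b hab => by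
    by_cases ha : a = 0
    · have := hone b G₀ (fun hb => hab ⟨ha, hb⟩) (Or.inl rfl)
      rwa [ha, zero_smul, zero_add]
    · have := hone a (F₀ + (a⁻¹ * b) • G₀) ha (Or.inr ⟨_, rfl⟩)
      rwa [smul_add, smul_smul, ← mul_assoc, mul_inv_cancel₀ ha, one_mul] at this) (fun h => hH h.1)
  refine ⟨G, fun M hM hb => by_contra fun hno => ?_⟩
  rcases hM with hM | ⟨c, hc⟩
  · refine hG 0 1 (fun h => one_ne_zero h.2) ?_
    rw [zero_smul, one_smul, zero_add, ← Set.mem_singleton_iff.1 hM]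
    exact ⟨hb, hno⟩
  · refine hG 1 c (fun h => one_ne_zero h.1) ?_
    rw [one_smul, show H + c • G = M from hc]
    exact ⟨hb, hno⟩

theorem isGeneric_through (hd : 1 ≤ d) (hL : LefPen.IsLefschetzEmb k (n + 1) ι d) (H : LefPen.Form r k d)
    (hH : LefPen.Transversal k (n + 1) 1 (LefPen.secToSpec ι ({H} : Set (LefPen.Form r k d)))) :
    LefPen.IsGeneric k {G : LefPen.Form r k d | LefPen.IsLefschetzPencil k (n + 1) ι d H G} := by
  classical
  haveI : Infinite k := IsAlgClosed.instInfinite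
  obtain ⟨f, hf, ⟨⟨F₁, G₁⟩, hne⟩, hS⟩ := hL
  have hP := hS (F₁, G₁) hne
  rw [Set.mem_setOf_eq] at hP
  obtain ⟨hli, -, -, hmem⟩ := hP
  have hiff := not_transversal_iff (d := d) ι (n + 1) (by omega) hd
  have hHb : ¬ Bad ι H := fun h => (hiff H).2 h hH
  obtain ⟨G₂, hG₂⟩ := exists_members_through ι n hd H F₁ G₁ hHb fun M hM hb => hmem M hM ((hiff M).2 hb)
  obtain ⟨g₃, hg₃, hg₃v, hg₃S⟩ := exists_members_poly ι n hd H G₂ hG₂
  have hH0 : H ≠ 0 := fun h => hHb (by rw [h]; exact bad_zero ι n)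
  obtain ⟨G₄, hG₄⟩ : ∃ G₄, LinearIndependent k ![H, G₄] := by
    by_contra! hcon
    have hmem' : ∀ G, ∃ c : k, c • H = G := fun G => by
      by_contra hne'
      exact hcon G ((LinearIndependent.pair_iff' hH0).2 fun c hc => hne' ⟨c, hc⟩)
    obtain ⟨a, rfl⟩ := hmem' F₁
    obtain ⟨b, rfl⟩ := hmem' G₁
    have := LinearIndependent.pair_iff.1 hli b (-a) (by rw [smul_smul, smul_smul, ← add_smul, neg_mul, mul_comm a b, add_neg_cancel, zero_smul])
    rw [neg_eq_zero] at this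
    exact hli.ne_zero 0 (by simp [this.2])
  obtain ⟨g₁, hg₁, hg₁v, hg₁S⟩ := exists_indep_poly H G₄ hG₄
  let B := Module.finBasis k (LefPen.Form r k d)
  obtain ⟨Pb, hPb, hPbS⟩ := exists_base_poly ι (n + 1) (by omega) hd H hH B
  obtain ⟨P₁, hP₁⟩ := exists_poly_of_isPolyFun B (isPolyFun_pair hg₁ H)
  obtain ⟨P₃, hP₃⟩ := exists_poly_of_isPolyFun B (isPolyFun_pair hg₃ H)
  have hne₁ : P₁ ≠ 0 := fun h => hg₁v ((hP₁ G₄).trans (by rw [h, map_zero]))
  have hne₃ : P₃ ≠ 0 := fun h => hg₃v ((hP₃ G₂).trans (by rw [h, map_zero]))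
  have hQ : P₁ * Pb * P₃ ≠ 0 := mul_ne_zero (mul_ne_zero hne₁ hPb) hne₃
  obtain ⟨f₀, hf₀, hf₀v, hf₀S⟩ := exists_avoid ι (n + 1) hd H hHb
  refine ⟨fun G => MvPolynomial.eval (B.equivFun G) (P₁ * Pb * P₃), S4026.isPolyFun_eval B.equivFun.toLinearMap _, ?_,
    fun G hG => ?_⟩
  · by_contra! h
    refine hQ (MvPolynomial.funext fun a => ?_)
    have := h (B.equivFun.symm a)
    rw [LinearEquiv.apply_symm_apply] at this
    rw [this, map_zero]
  simp only [map_mul, mul_ne_zero_iff] at hG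
  obtain ⟨⟨h1, h2⟩, h3⟩ := hG
  rw [← hP₁ G] at h1
  rw [← hP₃ G] at h3
  show LefPen.IsLefschetzPencil k (n + 1) ι d H G
  refine ⟨hg₁S H G h1, transversal₂_of_not_bad2 ι (n + 1) (by omega) hd H G (hPbS G h2), ?_, fun M hM hnt => ?_⟩
  · refine (finite_line_zero hf₀ H G 0 (by rwa [zero_smul, add_zero])).subset fun c hc => by_contra fun hne' => ?_
    exact hf₀S _ hne' ((hiff _).1 hc)
  · have hb := (hiff M).1 hnt
    rcases hM with hM | ⟨c, rfl⟩
    · rw [Set.mem_singleton_iff.1 hM] at hb ⊢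
      have := hg₃S H G h3 0 1 (fun h => one_ne_zero h.2)
      rw [zero_smul, one_smul, zero_add] at this
      exact this hb
    · have := hg₃S H G h3 1 c (fun h => one_ne_zero h.1)
      rw [one_smul] at this
      exact this hb

end

end Groth.Agent.PencilLib
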