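import Mathlib.RingTheory.MvPolynomial.Homogeneous
import Mathlib.RingTheory.Nullstellensatz
import Mathlib.LinearAlgebra.Matrix.ToLinearEquiv
import Mathlib.FieldTheory.IsAlgClosed.Basic
import Mathlib.Algebra.Polynomial.Roots

/-!
# Lines avoiding a cone form an open set
-/

set_option autoImplicit false
set_option maxHeartbeats 600000
universe u
open MvPolynomial

noncomputable section

namespace Groth.Agent.PencilLib

variable {k : Type u} [Field k]

theorem eval_smul_of_isHomogeneous {σ : Type} [Fintype σ] {P : MvPolynomial σ k} {D : ℕ} (hP : P.IsHomogeneous D)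
    (c : k) (x : σ → k) : eval (c • x) P = c ^ D * eval x P := by
  classical
  rw [eval_eq', eval_eq', Finset.mul_sum]
  refine Finset.sum_congr rfl fun e he => ?_
  have hd : ∑ i, e i = D := by
    rw [← hP (mem_support_iff.1 he)]
    simp [Finsupp.weight_apply, Finsupp.sum_fintype]
  simp only [Pi.smul_apply, smul_eq_mul, mul_pow, Finset.prod_mul_distrib, Finset.prod_pow_eq_pow_sum, hd]
  ring

/-- The components of a polynomial vanishing along a punctured line through the origin vanish there. -/
theorem eval_component_eq_zero [Infinite k] {σ : Type} [Fintype σ] (P : MvPolynomial σ k) (x : σ → k)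
    (h : ∀ c : k, c ≠ 0 → eval (c • x) P = 0) (D : ℕ) : eval x (homogeneousComponent D P) = 0 := by
  classical
  let p : Polynomial k := ∑ i ∈ Finset.range (P.totalDegree + 1),
    Polynomial.C (eval x (homogeneousComponent i P)) * Polynomial.X ^ i
  have hp : p = 0 := by
    refine p.eq_zero_of_infinite_isRoot (Set.Infinite.mono (s := {c : k | c ≠ 0}) (fun c hc => ?_) ?_)
    · have e : eval (c • x) P = ∑ i ∈ Finset.range (P.totalDegree + 1), eval (c • x) (homogeneousComponent i P) := by
        rw [← map_sum, sum_homogeneousComponent]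
      rw [h c hc] at e
      show p.eval c = 0
      rw [Polynomial.eval_finsetSum, e]
      refine Finset.sum_congr rfl fun i _ => ?_
      rw [Polynomial.eval_mul, Polynomial.eval_C, Polynomial.eval_pow, Polynomial.eval_X,
        eval_smul_of_isHomogeneous (homogeneousComponent_isHomogeneous i P), mul_comm]
    · exact (Set.finite_singleton (0 : k)).infinite_compl
  by_cases hD : D ∈ Finset.range (P.totalDegree + 1)
  · have := congrArg (fun q : Polynomial k => q.coeff D) hp
    simpa [p, Polynomial.finsetSum_coeff, hD] using this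
  · rw [homogeneousComponent_eq_zero _ _ (by simpa using hD), map_zero]

theorem binary_expand {R : Type u} [CommRing R] {D : ℕ} {P : MvPolynomial (Fin 2) R} (hP : P.IsHomogeneous D) :
    P = ∑ l : Fin (D + 1), C (coeff (Finsupp.single 0 (l : ℕ) + Finsupp.single 1 (D - l)) P) *
      (X 0 ^ (l : ℕ) * X 1 ^ (D - l)) := by
  classical
  ext e
  have key : ∀ l : Fin (D + 1), (C (coeff (Finsupp.single 0 (l : ℕ) + Finsupp.single 1 (D - l)) P) *
      (X 0 ^ (l : ℕ) * X 1 ^ (D - l)) : MvPolynomial (Fin 2) R).coeff e =
        if e 0 = l ∧ e 1 = D - l then coeff e P else 0 := by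
    intro l
    rw [X_pow_eq_monomial, X_pow_eq_monomial, monomial_mul, C_mul_monomial, coeff_monomial, one_mul, mul_one]
    have hiff : Finsupp.single (0 : Fin 2) (l : ℕ) + Finsupp.single 1 (D - l) = e ↔ e 0 = l ∧ e 1 = D - l := by
      refine ⟨fun h => by subst h; simp, fun h => Finsupp.ext fun i => ?_⟩
      fin_cases i <;> simp [h.1, h.2]
    by_cases h : e 0 = l ∧ e 1 = D - l
    · rw [if_pos (hiff.2 h), if_pos h, hiff.2 h]
    · rw [if_neg (mt hiff.1 h), if_neg h]
  rw [coeff_sum, Finset.sum_congr rfl fun l _ => key l]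
  by_cases he : e 0 + e 1 = D
  · rw [Finset.sum_eq_single (⟨e 0, by omega⟩ : Fin (D + 1))]
    · rw [if_pos ⟨rfl, by simp only; omega⟩]
    · intro l _ hl
      rw [if_neg]
      exact fun h => hl (Fin.ext h.1.symm)
    · simp
  · rw [Finset.sum_eq_zero (fun l _ => if_neg (fun h => he (by omega)))]
    refine hP.coeff_eq_zero ?_
    rw [Finsupp.degree_eq_sum, Fin.sum_univ_two]
    exact he

/-- The lines avoiding a cone form an open set. -/
theorem exists_line_poly [IsAlgClosed k] {N : ℕ} (S : Set (Fin N → k)) (hcone : ∀ c : k, c ≠ 0 → ∀ x ∈ S, c • x ∈ S)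
    (v w : Fin N → k)
    (hav : ∀ a b : k, ¬ (a = 0 ∧ b = 0) →
      ∃ P : MvPolynomial (Fin N) k, eval (a • v + b • w) P ≠ 0 ∧ ∀ x ∈ S, eval x P = 0) :
    ∃ Q : MvPolynomial (Fin N ⊕ Fin N) k, eval (Sum.elim v w) Q ≠ 0 ∧
      ∀ v' w', eval (Sum.elim v' w') Q ≠ 0 → ∀ a b : k, ¬ (a = 0 ∧ b = 0) → a • v' + b • w' ∉ S := by
  classical
  haveI : Infinite k := IsAlgClosed.instInfinite
  let R := MvPolynomial (Fin N ⊕ Fin N) k
  let sub : MvPolynomial (Fin N) k →ₐ[k] MvPolynomial (Fin 2) R :=
    aeval fun i => C (X (Sum.inl i)) * X 0 + C (X (Sum.inr i)) * X 1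
  let φ : (Fin N → k) → (Fin N → k) → MvPolynomial (Fin 2) R →+* MvPolynomial (Fin 2) k :=
    fun v' w' => map (eval (Sum.elim v' w'))
  have hsub : ∀ v' w' (a b : k) P, eval ![a, b] (φ v' w' (sub P)) = eval (a • v' + b • w') P := by
    intro v' w' a b P
    induction P using MvPolynomial.induction_on with
    | C c =>
      simp [sub, φ, aeval_C]
      exact eval_C c
    | add P Q hP hQ => simp only [map_add, hP, hQ]
    | mul_X P i hP =>
      simp only [map_mul, hP, eval_X]
      congr 1
      simp [sub, φ]
      simp only [R, eval_X, Sum.elim_inl, Sum.elim_inr]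
      ring
  let gens : Set (MvPolynomial (Fin 2) R) := sub '' {P | ∀ x ∈ S, eval x P = 0}
  let J : Ideal (MvPolynomial (Fin 2) R) := Ideal.span gens
  -- every zero of the specialised ideal on the avoided line is the origin
  have hzero : zeroLocus k (J.map (φ v w)) ⊆ {0} := by
    intro y hy
    rw [Set.mem_singleton_iff]
    by_contra hy0
    obtain ⟨P, hP, hPS⟩ := hav (y 0) (y 1) fun h => hy0 (funext fun i => by fin_cases i <;> simp [h.1, h.2])
    -- a homogeneous component of `P` still separates
    obtain ⟨i, hi⟩ : ∃ i, eval (y 0 • v + y 1 • w) (homogeneousComponent i P) ≠ 0 := by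
      by_contra! h
      refine hP ?_
      rw [← sum_homogeneousComponent P, map_sum]
      exact Finset.sum_eq_zero fun i _ => h i
    refine hi ?_
    have := hy _ (Ideal.mem_map_of_mem _ (Ideal.subset_span ⟨homogeneousComponent i P, fun x hx =>
      eval_component_eq_zero P x (fun c hc => hPS _ (hcone c hc x hx)) i, rfl⟩))
    rw [show y = ![y 0, y 1] from funext fun i => by fin_cases i <;> simp] at this
    rw [← hsub v w (y 0) (y 1)]
    exact this
  have hrad : ∀ t : Fin 2, (X t : MvPolynomial (Fin 2) k) ∈ (J.map (φ v w)).radical := fun t => by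
    rw [← vanishingIdeal_zeroLocus_eq_radical (K := k)]
    intro y hy
    rw [show y = 0 from hzero hy]
    simp
  choose D₁ hD₁ using fun t => (hrad t)
  let D := D₁ 0 + D₁ 1 + 1
  have hmono : ∀ l : Fin (D + 1), (X 0 ^ (l : ℕ) * X 1 ^ (D - l) : MvPolynomial (Fin 2) k) ∈ J.map (φ v w) := by
    intro l
    by_cases h : D₁ 0 ≤ l
    · exact Ideal.mul_mem_right _ _ (Ideal.mem_of_dvd _ (pow_dvd_pow _ h) (hD₁ 0))
    · exact Ideal.mul_mem_left _ _ (Ideal.mem_of_dvd _ (pow_dvd_pow _ (by omega)) (hD₁ 1))
  have hsurj : Function.Surjective (φ v w) := map_surjective _ fun c => ⟨C c, eval_C c⟩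
  choose r hr hrφ using fun l => (Ideal.mem_map_iff_of_surjective _ hsurj).1 (hmono l)
  let M : Matrix (Fin (D + 1)) (Fin (D + 1)) R := fun j l =>
    coeff (Finsupp.single 0 (l : ℕ) + Finsupp.single 1 (D - l)) (r j)
  refine ⟨M.det, ?_, fun v' w' hQ a b hab hmem => ?_⟩
  · rw [RingHom.map_det]
    suffices h : (eval (Sum.elim v w)).mapMatrix M = 1 by rw [h, Matrix.det_one]; exact one_ne_zero
    ext j l
    rw [RingHom.mapMatrix_apply, Matrix.map_apply]
    show eval (Sum.elim v w) (coeff _ (r j)) = _
    rw [← coeff_map, show map (eval (Sum.elim v w)) (r j) = φ v w (r j) from rfl, hrφ, X_pow_eq_monomial,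
      X_pow_eq_monomial, monomial_mul, coeff_monomial, one_mul, Matrix.one_apply]
    refine if_congr ⟨fun h => ?_, fun h => by rw [h]⟩ rfl rfl
    have := DFunLike.congr_fun h (0 : Fin 2)
    simp at this
    exact Fin.ext this
  · have hann : ∀ c : k, ∀ P ∈ J, eval (c • ![a, b]) (φ v' w' P) = 0 := by
      intro c P hP
      refine Submodule.span_induction ?_ ?_ ?_ ?_ hP
      · rintro _ ⟨P, hPS, rfl⟩
        rw [show c • ![a, b] = ![c * a, c * b] from funext fun i => by fin_cases i <;> simp, hsub]
        rcases eq_or_ne c 0 with rfl | hc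
        · rw [zero_mul, zero_mul, zero_smul, zero_smul, add_zero]
          have h0 := eval_component_eq_zero P (a • v' + b • w') (fun c hc => hPS _ (hcone c hc _ hmem)) 0
          rw [homogeneousComponent_zero, eval_C] at h0
          rw [eval_zero]
          exact h0
        · rw [mul_smul, mul_smul, ← smul_add]
          exact hPS _ (hcone c hc _ hmem)
      · simp
      · intro P Q _ _ hP hQ; rw [map_add, map_add, hP, hQ, add_zero]
      · intro P Q _ hQ; rw [smul_eq_mul, map_mul, map_mul, hQ, mul_zero]
    have hlin : Matrix.mulVec ((eval (Sum.elim v' w')).mapMatrix M) (fun l => a ^ (l : ℕ) * b ^ (D - l)) = 0 := by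
      funext j
      have h1 : eval ![a, b] (φ v' w' (homogeneousComponent D (r j))) = 0 := by
        have hmapc : φ v' w' (homogeneousComponent D (r j)) = homogeneousComponent D (φ v' w' (r j)) := by
          ext e
          simp only [φ, coeff_map, coeff_homogeneousComponent]
          split_ifs <;> simp
        rw [hmapc]
        exact eval_component_eq_zero _ _ (fun c _ => hann c _ (hr j)) D
      rw [binary_expand (homogeneousComponent_isHomogeneous D (r j))] at h1
      simp only [φ, map_sum, map_mul, map_pow, map_C, map_X, eval_C, eval_X, Matrix.cons_val_zero,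
        Matrix.cons_val_one, coeff_homogeneousComponent] at h1
      rw [Pi.zero_apply, ← h1]
      simp only [Matrix.mulVec, dotProduct]
      refine Finset.sum_congr rfl fun l _ => ?_
      have hdeg : (Finsupp.single (0 : Fin 2) (l : ℕ) + Finsupp.single 1 (D - l)).degree = D := by
        rw [map_add, Finsupp.degree_single, Finsupp.degree_single]; omega
      simp only [M, RingHom.mapMatrix_apply, Matrix.map_apply, hdeg, if_true]
    have hne : (fun l : Fin (D + 1) => a ^ (l : ℕ) * b ^ (D - l)) ≠ 0 := fun h => by
      rcases eq_or_ne a 0 with rfl | ha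
      · have := congrFun h 0
        simp at this
        exact hab ⟨rfl, this⟩
      · have := congrFun h (Fin.last D)
        simp at this
        exact ha this
    rw [RingHom.map_det] at hQ
    exact hne (Matrix.eq_zero_of_mulVec_eq_zero hQ hlin)

end Groth.Agent.PencilLib
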