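import Groth.Agent.PencilLib.Main

/-!
# Lines through a fixed point avoiding a cone
-/

set_option autoImplicit false
set_option maxHeartbeats 1000000
set_option maxRecDepth 4000
set_option linter.style.haveILetI false
universe u
open MvPolynomial

noncomputable section

namespace Groth.Agent.PencilLib

variable {k : Type u} [Field k]

theorem coeff_aeval_smul {σ : Type*} (p : σ → k) (h : MvPolynomial σ k) (n : ℕ) :
    (MvPolynomial.aeval (fun j => Polynomial.C (p j) * Polynomial.X) h).coeff n =
      MvPolynomial.eval p (homogeneousComponent n h) := by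
  classical
  induction h using MvPolynomial.induction_on' with
  | monomial d a =>
    have e : MvPolynomial.aeval (fun j => Polynomial.C (p j) * Polynomial.X) (monomial d a) =
        Polynomial.C (MvPolynomial.eval p (monomial d a)) * Polynomial.X ^ d.degree := by
      simp only [aeval_monomial, eval_monomial, mul_pow, Finsupp.prod, Finset.prod_mul_distrib, map_mul, map_prod, map_pow,
        Finset.prod_pow_eq_pow_sum, Polynomial.algebraMap_eq, Finsupp.degree_apply]
      ring
    rw [e, Polynomial.coeff_C_mul_X_pow,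
      homogeneousComponent_of_mem ((mem_homogeneousSubmodule d.degree (monomial d a)).2 (isHomogeneous_monomial a rfl))]
    split_ifs <;> simp
  | add p q hp hq => rw [map_add, map_add, Polynomial.coeff_add, hp, hq, map_add]

/-- A system `x^D = lower, y^D = lower` has finitely many solutions. -/
theorem finite_pow_eq {D : ℕ} (hD : 1 ≤ D) (q : Fin 2 → MvPolynomial (Fin 2) k)
    (hq : ∀ i, (q i).totalDegree ≤ D - 1) :
    {a : Fin 2 → k | ∀ i, a i ^ D = MvPolynomial.eval a (q i)}.Finite := by
  classical
  let I : Ideal (MvPolynomial (Fin 2) k) := Ideal.span (Set.range fun i => MvPolynomial.X i ^ D - q i)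
  let m := Ideal.Quotient.mkₐ k I
  let M : Submodule k (MvPolynomial (Fin 2) k ⧸ I) := (restrictTotalDegree (Fin 2) k (2 * D)).map m.toLinearMap
  have hM : ∀ (n : ℕ) (f : MvPolynomial (Fin 2) k), f.totalDegree ≤ n → m f ∈ M := by
    intro n
    induction n with
    | zero => exact fun f hf => ⟨f, (mem_restrictTotalDegree _ _ _).2 (by omega), rfl⟩
    | succ n ih =>
      intro f hf
      rw [f.as_sum, map_sum]
      refine Submodule.sum_mem _ fun d hd => ?_
      have hdn : d.degree ≤ n + 1 := le_trans (by rw [Finsupp.degree_apply]; exact le_totalDegree hd) hf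
      by_cases h2 : d.degree ≤ 2 * D
      · exact ⟨monomial d (coeff d f), (mem_restrictTotalDegree _ _ _).2 ((totalDegree_monomial_le _ _).trans (by
          simpa [Finsupp.degree_apply, Finsupp.sum] using h2)), rfl⟩
      obtain ⟨i, hi⟩ : ∃ i, D ≤ d i := by
        by_contra! hlt
        refine h2 ?_
        rw [Finsupp.degree_eq_sum, Fin.sum_univ_two]
        have := hlt 0
        have := hlt 1
        omega
      let d' := d - Finsupp.single i D
      have hd' : d = Finsupp.single i D + d' := by
        ext j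
        simp only [d', Finsupp.add_apply, Finsupp.tsub_apply, Finsupp.single_apply]
        split_ifs with hij
        · subst hij; omega
        · omega
      have hdeg : d.degree = D + d'.degree := by
        conv_lhs => rw [hd', map_add, Finsupp.degree_single]
      have e : m (monomial d (coeff d f)) = m (q i * monomial d' (coeff d f)) := by
        refine (Ideal.Quotient.mkₐ_eq_mk k I ▸ Ideal.Quotient.eq.2 ?_)
        have e1 : monomial d (coeff d f) - q i * monomial d' (coeff d f) =
            (MvPolynomial.X i ^ D - q i) * monomial d' (coeff d f) := by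
          rw [sub_mul, X_pow_eq_monomial, monomial_mul, one_mul, ← hd']
        rw [e1]
        exact Ideal.mul_mem_right _ _ (Ideal.subset_span ⟨i, rfl⟩)
      rw [e]
      refine ih _ ((totalDegree_mul _ _).trans ?_)
      have h3 : (monomial d' (coeff d f)).totalDegree ≤ d'.degree :=
        (totalDegree_monomial_le _ _).trans (by simp [Finsupp.degree_apply, Finsupp.sum])
      have := hq i
      omega
  haveI : Module.Finite k (MvPolynomial (Fin 2) k ⧸ I) := by
    refine ⟨?_⟩
    have : M = ⊤ := top_le_iff.1 fun x _ => by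
      obtain ⟨f, rfl⟩ := Ideal.Quotient.mkₐ_surjective k I x
      exact hM _ f le_rfl
    rw [← this]
    exact (Module.Finite.iff_fg.1 inferInstance).map _
  have hint : ∀ i, IsIntegral k (m (MvPolynomial.X i)) := fun i => Algebra.IsIntegral.isIntegral _
  choose P hP hP0 using hint
  refine (Set.Finite.pi fun i => Polynomial.finite_setOf_isRoot (hP i).ne_zero).subset fun a ha i _ => ?_
  have hle : I ≤ RingHom.ker (MvPolynomial.eval a) := Ideal.span_le.2 (by
    rintro _ ⟨j, rfl⟩
    rw [SetLike.mem_coe, RingHom.mem_ker, map_sub, map_pow, eval_X, ha j, sub_self])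
  let ev : (MvPolynomial (Fin 2) k ⧸ I) →ₐ[k] k := Ideal.Quotient.liftₐ I (MvPolynomial.aeval a) fun f hf => hle hf
  have h := congrArg ev (hP0 i)
  rw [← Polynomial.aeval_def, ← Polynomial.aeval_algHom_apply, map_zero] at h
  show (P i).IsRoot (a i)
  have hev : ev (m (MvPolynomial.X i)) = a i := MvPolynomial.aeval_X a i
  rw [hev, Polynomial.coe_aeval_eq_eval] at h
  exact h

variable [IsAlgClosed k]

/-- If some line avoids a closed cone, then some line through any point outside it does. -/
theorem exists_line_through {V : Type u} [AddCommGroup V] [Module k V] (S : Set V)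
    (hcone : ∀ c : k, c ≠ 0 → ∀ x ∈ S, c • x ∈ S) (h₀ v w : V)
    (hav : ∀ a b : k, ¬ (a = 0 ∧ b = 0) →
      ∃ f : V → k, LefPen.IsPolyFun k f ∧ f (a • v + b • w) ≠ 0 ∧ ∀ x ∈ S, f x = 0)
    (h₀S : h₀ ∉ S) :
    ∃ G : V, ∀ a b : k, ¬ (a = 0 ∧ b = 0) → a • h₀ + b • G ∉ S := by
  classical
  have havS : ∀ a b : k, ¬ (a = 0 ∧ b = 0) → a • v + b • w ∉ S := fun a b hab hmem => by
    obtain ⟨f, -, hf, hfS⟩ := hav a b hab
    exact hf (hfS _ hmem)
  by_cases hspan : ∃ a b : k, h₀ = a • v + b • w
  · obtain ⟨a, b, hab⟩ := hspan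
    by_cases ha : a = 0
    · refine ⟨v, fun α β hαβ => ?_⟩
      by_cases hβ : β = 0
      · have hα : α ≠ 0 := fun hα => hαβ ⟨hα, hβ⟩
        rw [hβ, zero_smul, add_zero]
        exact fun hm => h₀S (by simpa [smul_smul, inv_mul_cancel₀ hα] using hcone α⁻¹ (inv_ne_zero hα) _ hm)
      · rw [hab, ha, zero_smul, zero_add, smul_smul, add_comm]
        exact havS β (α * b) fun h => hβ h.1
    · refine ⟨w, fun α β hαβ => ?_⟩
      rw [hab, smul_add, smul_smul, smul_smul, add_assoc, ← add_smul]
      refine havS _ _ fun h => hαβ ?_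
      have hα : α = 0 := (mul_eq_zero.1 h.1).resolve_right ha
      exact ⟨hα, by simpa [hα] using h.2⟩
  let T : (Fin 3 → k) →ₗ[k] V := (LinearMap.proj 0).smulRight v + (LinearMap.proj 1).smulRight w +
    (LinearMap.proj 2).smulRight h₀
  have hT : ∀ p, T p = p 0 • v + p 1 • w + p 2 • h₀ := fun p => rfl
  let I : Ideal (MvPolynomial (Fin 3) k) :=
    { carrier := {g | ∀ p, T p ∈ S → MvPolynomial.eval p g = 0}
      add_mem' := fun hf hg p hp => by rw [map_add, hf p hp, hg p hp, add_zero]
      zero_mem' := fun p _ => map_zero _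
      smul_mem' := fun c g hg p hp => by rw [smul_eq_mul, map_mul, hg p hp, mul_zero] }
  let J : Ideal (MvPolynomial (Fin 3) k) := I ⊔ Ideal.span {MvPolynomial.X 2}
  have hzero : ∀ p : Fin 3 → k, p ∈ zeroLocus k J → p = 0 := by
    intro p hp
    have h2 : p 2 = 0 := by
      have := hp (MvPolynomial.X 2) (Ideal.mem_sup_right (Ideal.mem_span_singleton_self _))
      rwa [aeval_X] at this
    by_contra hp0
    obtain ⟨f, hf, hfp, hfS⟩ := hav (p 0) (p 1) fun h => hp0 (funext fun i => by
      fin_cases i <;> simp [h.1, h.2, h2])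
    obtain ⟨g, hg⟩ := exists_poly_of_isPolyFun (Pi.basisFun k (Fin 3)) (isPolyFun_comp hf T)
    have hg' : ∀ p', f (T p') = MvPolynomial.eval p' g := fun p' => by simpa using hg p'
    have hgI : g ∈ I := fun p' hp' => (hg' p').symm.trans (hfS _ hp')
    refine hfp ?_
    have h3 := hp g (Ideal.mem_sup_left hgI)
    rw [aeval_eq_eval] at h3
    rw [← h3]
    refine Eq.trans ?_ (hg' p)
    rw [hT, h2, zero_smul, add_zero]
  have hrad : ∀ i, MvPolynomial.X i ∈ J.radical := fun i => by
    rw [← vanishingIdeal_zeroLocus_eq_radical (K := k)]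
    intro p hp
    rw [aeval_X, hzero p hp]; rfl
  obtain ⟨D₀, hD₀⟩ := hrad 0
  obtain ⟨D₁, hD₁⟩ := hrad 1
  obtain ⟨D, hD, hmem⟩ : ∃ D, 1 ≤ D ∧ ∀ i : Fin 2, (MvPolynomial.X i.castSucc : MvPolynomial (Fin 3) k) ^ D ∈ J :=
    ⟨D₀ + D₁ + 1, by omega, fun i => by
      fin_cases i
      · exact Ideal.pow_mem_of_pow_mem _ hD₀ (by omega)
      · exact Ideal.pow_mem_of_pow_mem _ hD₁ (by omega)⟩
  have hdec : ∀ i : Fin 2, ∃ h : MvPolynomial (Fin 3) k, ∀ p, T p ∈ S →
      p i.castSucc ^ D = p 2 * MvPolynomial.eval p h := fun i => by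
    obtain ⟨g, hg, z, hz, e⟩ := Submodule.mem_sup.1 (hmem i)
    obtain ⟨h, rfl⟩ := Ideal.mem_span_singleton'.1 hz
    refine ⟨h, fun p hp => ?_⟩
    have := congrArg (MvPolynomial.eval p) e
    rw [map_add, hg p hp, zero_add, map_mul, map_pow, eval_X, eval_X] at this
    rw [← this, mul_comm]
  choose h hh using hdec
  let sub : Fin 3 → MvPolynomial (Fin 2) k := ![MvPolynomial.X 0, MvPolynomial.X 1, 1]
  let q : Fin 2 → MvPolynomial (Fin 2) k := fun i => MvPolynomial.aeval sub (homogeneousComponent (D - 1) (h i))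
  have hqdeg : ∀ i, (q i).totalDegree ≤ D - 1 := fun i => by
    show (MvPolynomial.aeval sub _).totalDegree ≤ _
    rw [aeval_def, eval₂_eq]
    refine (totalDegree_finset_sum _ _).trans (Finset.sup_le fun d hd => ?_)
    have hdd : d.degree = D - 1 := by
      by_contra hne
      exact MvPolynomial.mem_support_iff.1 hd (by rw [coeff_homogeneousComponent, if_neg hne])
    refine (totalDegree_mul _ _).trans ?_
    rw [MvPolynomial.algebraMap_eq, totalDegree_C, zero_add]
    refine (totalDegree_finset_prod _ _).trans (le_of_le_of_eq (Finset.sum_le_sum fun j _ => ?_)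
      ((Finsupp.degree_apply d).symm.trans hdd))
    refine (totalDegree_pow _ _).trans ?_
    have hsub : (sub j).totalDegree ≤ 1 := by fin_cases j <;> simp [sub]
    exact (Nat.mul_le_mul_left _ hsub).trans (mul_one _).le
  -- the slice
  have hslice : ∀ p : Fin 3 → k, T p ∈ S → p 2 = 1 → ∀ i : Fin 2,
      p i.castSucc ^ D = MvPolynomial.eval (fun j : Fin 2 => p j.castSucc) (q i) := by
    intro p hp hp2 i
    let lhs : Polynomial k := Polynomial.C (p i.castSucc ^ D) * Polynomial.X ^ D
    let rhs : Polynomial k := Polynomial.X * MvPolynomial.aeval (fun j => Polynomial.C (p j) * Polynomial.X) (h i)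
    have heq : lhs = rhs := by
      haveI : Infinite k := IsAlgClosed.instInfinite
      refine Polynomial.eq_of_infinite_eval_eq _ _ ((Set.finite_singleton (0 : k)).infinite_compl.mono fun s hs => ?_)
      have hs0 : s ≠ 0 := hs
      have := hh i (s • p) (by rw [map_smul]; exact hcone s hs0 _ hp)
      simp only [Pi.smul_apply, smul_eq_mul, hp2, mul_one, mul_pow] at this
      show lhs.eval s = rhs.eval s
      simp only [lhs, rhs, Polynomial.eval_mul, Polynomial.eval_C, Polynomial.eval_pow, Polynomial.eval_X]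
      rw [mul_comm (p i.castSucc ^ D), this, ← Polynomial.coe_aeval_eq_eval, ← AlgHom.comp_apply, comp_aeval,
        ← MvPolynomial.aeval_eq_eval]
      congr 2
      exact congrArg _ (funext fun j => by simp; ring)
    have hc := congrArg (fun P : Polynomial k => P.coeff ((D - 1) + 1)) heq
    simp only [lhs, rhs] at hc
    rw [Polynomial.coeff_X_mul, coeff_aeval_smul, Polynomial.coeff_C_mul_X_pow, if_pos (by omega)] at hc
    rw [hc]
    show _ = MvPolynomial.aeval (fun j : Fin 2 => p j.castSucc) (MvPolynomial.aeval sub _)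
    rw [← AlgHom.comp_apply, comp_aeval, aeval_eq_eval]
    congr 2
    funext j
    fin_cases j <;> simp [sub, hp2]
  have hfin := finite_pow_eq hD q hqdeg
  haveI : Infinite k := IsAlgClosed.instInfinite
  obtain ⟨t, ht⟩ := (hfin.image fun a : Fin 2 → k => a 1 / a 0).infinite_compl.nonempty
  refine ⟨v + t • w, fun α β hαβ hmem => ?_⟩
  by_cases hβ : β = 0
  · have hα : α ≠ 0 := fun hα => hαβ ⟨hα, hβ⟩
    rw [hβ, zero_smul, add_zero] at hmem
    exact h₀S (by simpa [smul_smul, inv_mul_cancel₀ hα] using hcone α⁻¹ (inv_ne_zero hα) _ hmem)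
  by_cases hα : α = 0
  · rw [hα, zero_smul, zero_add, smul_add, smul_smul] at hmem
    exact havS β (β * t) (fun h => hβ h.1) hmem
  let p : Fin 3 → k := ![β / α, β / α * t, 1]
  have hp : T p ∈ S := by
    have e : T p = α⁻¹ • (α • h₀ + β • (v + t • w)) := by
      rw [hT, smul_add α⁻¹, smul_smul, inv_mul_cancel₀ hα, one_smul, smul_smul, smul_add, smul_smul]
      simp only [p, Matrix.cons_val_zero, Matrix.cons_val_one, Matrix.cons_val, div_eq_inv_mul, one_smul]
      abel
    rw [e]
    exact hcone _ (inv_ne_zero hα) _ hmem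
  refine ht ⟨fun j => p j.castSucc, fun i => hslice p hp rfl i, ?_⟩
  show p 1 / p 0 = t
  simp only [p, Matrix.cons_val_zero, Matrix.cons_val_one]
  field_simp

end Groth.Agent.PencilLib
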