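import Groth.Agent.LefDualLib.Cut

/-!
# Cutting by two functions with independent differentials
-/

set_option autoImplicit false
set_option maxHeartbeats 600000
set_option backward.isDefEq.respectTransparency false
set_option linter.style.haveILetI false
universe u
open TensorProduct KaehlerDifferential Module AlgebraicGeometry

noncomputable section

namespace Groth.Agent.PencilLib

open LefDualLib

variable (k : Type u) [Field k]

theorem bijective_mk_rename₂ (n : ℕ) :
    Function.Bijective ((Ideal.Quotient.mk (Ideal.span (Set.range fun i : Fin 2 =>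
      (MvPolynomial.X (Fin.castLE (by omega : 2 ≤ n + 2) i) : MvPolynomial (Fin (n + 2)) k)))).comp
      (MvPolynomial.rename (Fin.succ ∘ Fin.succ : Fin n → Fin (n + 2))).toRingHom) := by
  let I : Ideal (MvPolynomial (Fin (n + 2)) k) := Ideal.span (Set.range fun i : Fin 2 =>
    MvPolynomial.X (Fin.castLE (by omega : 2 ≤ n + 2) i))
  let ev : MvPolynomial (Fin (n + 2)) k →ₐ[k] MvPolynomial (Fin n) k :=
    MvPolynomial.aeval (Fin.cases 0 (Fin.cases 0 MvPolynomial.X))
  have h1 : ∀ p, ev (MvPolynomial.rename (Fin.succ ∘ Fin.succ) p) = p := fun p => by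
    simp only [ev, MvPolynomial.aeval_rename, Function.comp_def, Fin.cases_succ]
    exact MvPolynomial.aeval_X_left_apply p
  have h2 : I ≤ RingHom.ker ev.toRingHom := Ideal.span_le.2 (by
    rintro _ ⟨i, rfl⟩
    show ev (MvPolynomial.X _) = 0
    fin_cases i
    · exact MvPolynomial.aeval_X _ _
    · exact MvPolynomial.aeval_X _ _)
  refine ⟨fun p q hpq => ?_, fun z => ?_⟩
  · rw [RingHom.comp_apply, RingHom.comp_apply, Ideal.Quotient.eq] at hpq
    have h : ev _ = 0 := h2 hpq
    rw [map_sub] at h
    exact ((h1 p).symm.trans (sub_eq_zero.1 h)).trans (h1 q)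
  · obtain ⟨p, rfl⟩ := Ideal.Quotient.mk_surjective z
    refine ⟨ev p, ?_⟩
    rw [RingHom.comp_apply, Ideal.Quotient.eq]
    show MvPolynomial.rename (Fin.succ ∘ Fin.succ) (ev p) - p ∈ I
    induction p using MvPolynomial.induction_on with
    | C c => simp [ev]
    | add p q hp hq =>
      rw [map_add, map_add, add_sub_add_comm]
      exact add_mem hp hq
    | mul_X p i hp =>
      rw [map_mul, map_mul]
      cases i using Fin.cases with
      | zero =>
        have e : ev (MvPolynomial.X (0 : Fin (n + 2))) = 0 := by simp [ev]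
        rw [e, map_zero, mul_zero, zero_sub]
        exact neg_mem (I.mul_mem_left _ (Ideal.subset_span ⟨0, rfl⟩))
      | succ j =>
        cases j using Fin.cases with
        | zero =>
          have e : ev (MvPolynomial.X (Fin.succ (0 : Fin (n + 1)))) = 0 := by
            simp only [ev, MvPolynomial.aeval_X, Fin.cases_succ, Fin.cases_zero]
          rw [e, map_zero, mul_zero, zero_sub]
          exact neg_mem (I.mul_mem_left _ (Ideal.subset_span ⟨1, rfl⟩))
        | succ l =>
          have e : MvPolynomial.rename (Fin.succ ∘ Fin.succ) (ev (MvPolynomial.X l.succ.succ)) =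
              (MvPolynomial.X l.succ.succ : MvPolynomial (Fin (n + 2)) k) := by simp [ev]
          rw [e, ← sub_mul]
          exact I.mul_mem_right _ hp

/-- Cutting a standard smooth algebra by two elements with independent differentials. -/
theorem exists_smooth_section₂ {T : Type u} [CommRing T] [Algebra k T] [Algebra.IsStandardSmooth k T] {n : ℕ}
    (b : Basis (Fin (n + 2)) T Ω[T⁄k]) (Q : Ideal T) [Q.IsPrime] (s s' : T)
    (hd : LinearIndependent Q.ResidueField ![(1 : Q.ResidueField) ⊗ₜ[T] D k T s, (1 : Q.ResidueField) ⊗ₜ[T] D k T s']) :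
    ∃ g : T, g ∉ Q ∧ Algebra.IsStandardSmoothOfRelativeDimension n k
      (Localization.Away g ⧸ Ideal.span {algebraMap T (Localization.Away g) s, algebraMap T (Localization.Away g) s'}) := by
  classical
  let K := Q.ResidueField
  let v : T → K ⊗[T] Ω[T⁄k] := fun r => (1 : K) ⊗ₜ[T] D k T r
  have hspan : Submodule.span K (Set.range v) = ⊤ := by
    rw [eq_top_iff, ← (b.baseChange K).span_eq, Submodule.span_le]
    rintro _ ⟨i, rfl⟩
    rw [Basis.baseChange_apply, SetLike.mem_coe]
    suffices h : ∀ w : Ω[T⁄k], (1 : K) ⊗ₜ[T] w ∈ Submodule.span K (Set.range v) from h _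
    intro w
    have hw : w ∈ Submodule.span T (Set.range (D k T)) := KaehlerDifferential.span_range_derivation k T ▸ trivial
    induction hw using Submodule.span_induction with
    | mem x hx => obtain ⟨r, rfl⟩ := hx; exact Submodule.subset_span ⟨r, rfl⟩
    | zero => rw [TensorProduct.tmul_zero]; exact zero_mem _
    | add x y _ _ hx hy => rw [TensorProduct.tmul_add]; exact add_mem hx hy
    | smul c x _ hx =>
      rw [TensorProduct.tmul_smul, ← algebraMap_smul K c]
      exact Submodule.smul_mem _ _ hx
  have hls : LinearIndepOn K id ({v s, v s'} : Set (K ⊗[T] Ω[T⁄k])) := by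
    have := hd.linearIndepOn_id
    rwa [Matrix.range_cons, Matrix.range_cons, Matrix.range_empty, Set.union_empty, Set.singleton_union] at this
  have hsub : ({v s, v s'} : Set (K ⊗[T] Ω[T⁄k])) ⊆ Set.range v := by
    rintro x (rfl | rfl)
    · exact ⟨s, rfl⟩
    · exact ⟨s', rfl⟩
  have hne : v s ≠ v s' := fun h => by
    have := hd.injective (show ![v s, v s'] 0 = ![v s, v s'] 1 from h)
    simp at this
  let t := hls.extend hsub
  have htv : t ⊆ Set.range v := hls.extend_subset _
  have hst : v s ∈ t := hls.subset_extend _ (Or.inl rfl)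
  have hst' : v s' ∈ t := hls.subset_extend _ (Or.inr rfl)
  let b₀ : Basis t K (K ⊗[T] Ω[T⁄k]) := Basis.mk (hls.linearIndepOn_extend _) (by
    rw [show Set.range (fun x : t => id (x : K ⊗[T] Ω[T⁄k])) = t from Subtype.range_coe, ← hspan]
    exact Submodule.span_le.2 (hls.subset_span_extend _))
  let σ₀ := (b.baseChange K).indexEquiv b₀
  let σ₁ : Fin (n + 2) ≃ t := (Equiv.swap 0 (σ₀.symm ⟨v s, hst⟩)).trans σ₀
  have hσ₁ : σ₁ 0 = ⟨v s, hst⟩ := by simp [σ₁]
  let σ : Fin (n + 2) ≃ t := (Equiv.swap 1 (σ₁.symm ⟨v s', hst'⟩)).trans σ₁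
  have hσ : σ 0 = ⟨v s, hst⟩ := by
    show σ₁ (Equiv.swap 1 (σ₁.symm ⟨v s', hst'⟩) 0) = _
    rw [Equiv.swap_apply_of_ne_of_ne (by simp) (fun h => hne ?_), hσ₁]
    have := congrArg σ₁ h
    rw [hσ₁, Equiv.apply_symm_apply] at this
    exact congrArg Subtype.val this
  have hσ' : σ 1 = ⟨v s', hst'⟩ := by simp [σ]
  choose f hf using fun i => htv (σ i).2
  let f' : Fin (n + 2) → T := Function.update (Function.update f 0 s) 1 s'
  have hf' : ∀ i, v (f' i) = (σ i : K ⊗[T] Ω[T⁄k]) := fun i => by
    rcases eq_or_ne i 1 with rfl | hi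
    · simp [f', hσ']
    rcases eq_or_ne i 0 with rfl | hi0
    · simp [f', hσ, hi]
    · simp [f', hi, hi0, hf]
  have hlf : LinearIndependent K fun i => (1 : K) ⊗ₜ[T] D k T (f' i) := by
    rw [show (fun i => (1 : K) ⊗ₜ[T] D k T (f' i)) = b₀ ∘ σ from funext fun i => by
      rw [Function.comp_apply, Basis.mk_apply]; exact hf' i]
    exact b₀.linearIndependent.comp _ σ.injective
  obtain ⟨Dt, hDt, het⟩ := SmoothSliceLib.exists_etale_coords b K f' hlf
  refine ⟨Dt, fun h => hDt (Ideal.algebraMap_residueField_eq_zero.2 h), ?_⟩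
  let U := Localization.Away Dt
  let φ : MvPolynomial (Fin (n + 2)) k →ₐ[k] U := MvPolynomial.aeval fun i => algebraMap T U (f' i)
  letI : Algebra (MvPolynomial (Fin (n + 2)) k) U := φ.toRingHom.toAlgebra
  haveI : Algebra.Etale (MvPolynomial (Fin (n + 2)) k) U := het
  let C₀ := MvPolynomial (Fin n) k
  let c : C₀ →+* MvPolynomial (Fin (n + 2)) k :=
    (MvPolynomial.rename (Fin.succ ∘ Fin.succ : Fin n → Fin (n + 2))).toRingHom
  letI : Algebra C₀ U := (φ.toRingHom.comp c).toAlgebra
  have h1 : Algebra.Etale C₀ (U ⧸ (Ideal.span (Set.range fun i : Fin 2 =>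
      (MvPolynomial.X (Fin.castLE (by omega : 2 ≤ n + 2) i) : MvPolynomial (Fin (n + 2)) k))).map
      (algebraMap (MvPolynomial (Fin (n + 2)) k) U)) :=
    SmoothSliceLib.etale_quot c rfl _ (bijective_mk_rename₂ k n)
  have hI : (Ideal.span (Set.range fun i : Fin 2 =>
      (MvPolynomial.X (Fin.castLE (by omega : 2 ≤ n + 2) i) : MvPolynomial (Fin (n + 2)) k))).map
      (algebraMap (MvPolynomial (Fin (n + 2)) k) U) = Ideal.span {algebraMap T U s, algebraMap T U s'} := by
    rw [Ideal.map_span, ← Set.range_comp]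
    congr 1
    have e0 : φ (MvPolynomial.X (0 : Fin (n + 2))) = algebraMap T U s := by simp [φ, f']
    have e1 : φ (MvPolynomial.X (1 : Fin (n + 2))) = algebraMap T U s' := by simp [φ, f']
    refine Set.ext fun x => ⟨?_, ?_⟩
    · rintro ⟨i, rfl⟩
      fin_cases i
      · exact Or.inl e0
      · exact Or.inr e1
    · rintro (rfl | rfl)
      · exact ⟨0, e0⟩
      · exact ⟨1, e1⟩
  rw [hI] at h1
  haveI : IsScalarTower k C₀ (U ⧸ Ideal.span {algebraMap T U s, algebraMap T U s'}) :=
    IsScalarTower.of_algebraMap_eq (R := k) (S := C₀) (A := U ⧸ Ideal.span {algebraMap T U s, algebraMap T U s'}) fun a => by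
      show Ideal.Quotient.mk _ (algebraMap k U a) =
        Ideal.Quotient.mk _ (φ (MvPolynomial.rename (Fin.succ ∘ Fin.succ) (MvPolynomial.C a)))
      rw [MvPolynomial.rename_C, MvPolynomial.algHom_C]
  haveI := BertiniAff.isStandardSmoothOfRelativeDimension_mvPolynomial k n
  haveI : Algebra.IsStandardSmoothOfRelativeDimension 0 C₀ (U ⧸ Ideal.span {algebraMap T U s, algebraMap T U s'}) :=
    Algebra.Etale.iff_isStandardSmoothOfRelativeDimension_zero.1 h1
  have := Algebra.IsStandardSmoothOfRelativeDimension.trans (n := n) (m := 0) k C₀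
    (U ⧸ Ideal.span {algebraMap T U s, algebraMap T U s'})
  rwa [zero_add] at this

variable {k} {A : Type u} [CommRing A] [Algebra k A] [Algebra.Smooth k A]

/-- Two functions with independent differentials cut out a smooth subscheme of codimension two. -/
theorem smooth_cut₂ {m r : ℕ} (x : Fin m → A)
    (hx : Function.Surjective (MvPolynomial.aeval x : MvPolynomial (Fin m) k →ₐ[k] A))
    (hdim : ∀ P ∈ minimalPrimes A, ringKrullDim (A ⧸ P) = r) (hr : 2 ≤ r) (s s' : A)
    (q : Ideal (A ⧸ Ideal.span {s, s'})) (hq : q.IsPrime)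
    (hnd : ∃ ψ ψ' : Ω[A⁄k] →ₗ[A] A,
      ψ (D k A s) * ψ' (D k A s') - ψ' (D k A s) * ψ (D k A s') ∉ q.comap (Ideal.Quotient.mk (Ideal.span {s, s'}))) :
    ∃ f : A ⧸ Ideal.span {s, s'}, f ∉ q ∧ SmoothOfRelativeDimension (r - 2)
      (Spec.map (CommRingCat.ofHom (algebraMap k (Localization.Away f)))) := by
  classical
  obtain ⟨n, rfl⟩ : ∃ n, r = n + 2 := ⟨r - 2, by omega⟩
  let mk := Ideal.Quotient.mk (Ideal.span {s, s'})
  let p := q.comap mk
  haveI : p.IsPrime := Ideal.IsPrime.comap _
  obtain ⟨f, hfp, hfs, ⟨b⟩⟩ := exists_chart_basis x hx hdim p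
  haveI := hfs
  let T := Localization.Away f
  have hd : Disjoint (Submonoid.powers f : Set A) p := Set.disjoint_left.2 fun y ⟨i, hi⟩ hy => hfp
    (‹p.IsPrime›.mem_of_pow_mem i (show f ^ i ∈ p by rwa [show f ^ i = y from hi]))
  let Q := p.map (algebraMap A T)
  haveI : Q.IsPrime := IsLocalization.isPrime_of_isPrime_disjoint _ _ p inferInstance hd
  obtain ⟨ψ, ψ', hψ⟩ := hnd
  let K := Q.ResidueField
  have hbT : IsBaseChange T (KaehlerDifferential.map k k A T) :=
    KaehlerDifferential.isBaseChange_of_formallyEtale k A T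
  let Λ : (Ω[A⁄k] →ₗ[A] A) → (K ⊗[T] Ω[T⁄k] →ₗ[K] K) := fun χ =>
    (TensorProduct.AlgebraTensorModule.rid T K K).toLinearMap.comp
      ((hbT.lift ((Algebra.linearMap A T).comp χ)).baseChange K)
  have hΛ : ∀ χ a, Λ χ ((1 : K) ⊗ₜ[T] D k T (algebraMap A T a)) = algebraMap T K (algebraMap A T (χ (D k A a))) := by
    intro χ a
    have e1 : hbT.lift ((Algebra.linearMap A T).comp χ) (D k T (algebraMap A T a)) = algebraMap A T (χ (D k A a)) := by
      rw [← KaehlerDifferential.map_D k k A T]
      exact hbT.lift_eq _ _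
    simp [Λ, e1, Algebra.smul_def]
  have hne : LinearIndependent K ![(1 : K) ⊗ₜ[T] D k T (algebraMap A T s), (1 : K) ⊗ₜ[T] D k T (algebraMap A T s')] := by
    rw [LinearIndependent.pair_iff]
    intro a c h
    have hz : ∀ χ : Ω[A⁄k] →ₗ[A] A, a * algebraMap T K (algebraMap A T (χ (D k A s))) +
        c * algebraMap T K (algebraMap A T (χ (D k A s'))) = 0 := fun χ => by
      have := congrArg (Λ χ) h
      rwa [map_add, map_smul, map_smul, hΛ, hΛ, map_zero, smul_eq_mul, smul_eq_mul] at this
    have hdet : algebraMap T K (algebraMap A T (ψ (D k A s) * ψ' (D k A s') - ψ' (D k A s) * ψ (D k A s'))) ≠ 0 := by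
      intro h0
      refine hψ ?_
      have := Ideal.algebraMap_residueField_eq_zero.1 h0
      show _ ∈ p
      rw [← IsLocalization.under_map_of_isPrime_disjoint (Submonoid.powers f) T (I := p) inferInstance hd]
      exact this
    rw [map_sub, map_sub, map_mul, map_mul, map_mul, map_mul] at hdet
    have h1 := hz ψ
    have h2 := hz ψ'
    constructor
    · exact (mul_eq_zero.1 (show a * _ = 0 by
        linear_combination (algebraMap T K (algebraMap A T (ψ' (D k A s')))) * h1 -
          (algebraMap T K (algebraMap A T (ψ (D k A s')))) * h2)).resolve_right hdet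
    · exact (mul_eq_zero.1 (show c * _ = 0 by
        linear_combination (algebraMap T K (algebraMap A T (ψ (D k A s)))) * h2 -
          (algebraMap T K (algebraMap A T (ψ' (D k A s)))) * h1)).resolve_right hdet
  obtain ⟨c, hcQ, hstd⟩ := exists_smooth_section₂ k b Q (algebraMap A T s) (algebraMap A T s') hne
  let c' := (IsLocalization.Away.sec f c).1
  let U := Localization.Away c
  haveI : IsLocalization.Away (f * c') U :=
    .mul_of_associated _ _ c <| IsLocalization.Away.associated_sec_fst f c
  have hc' : c' ∉ p := fun h => hcQ (by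
    rw [Ideal.mem_iff_of_associated (IsLocalization.Away.associated_sec_fst f c).symm]
    exact Ideal.mem_map_of_mem _ h)
  refine ⟨mk (f * c'), fun h => ?_, ?_⟩
  · exact (‹p.IsPrime›.mem_or_mem (show f * c' ∈ p from h)).elim hfp hc'
  · let I' := Ideal.span {algebraMap T U (algebraMap A T s), algebraMap T U (algebraMap A T s')}
    let U' := U ⧸ I'
    have hmapspan : (Ideal.span {s, s'}).map (algebraMap A U) = I' := by
      rw [Ideal.map_span, Set.image_pair, IsScalarTower.algebraMap_apply A T U, IsScalarTower.algebraMap_apply A T U]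
    letI : Algebra (A ⧸ Ideal.span {s, s'}) U' :=
      RingHom.toAlgebra (R := A ⧸ Ideal.span {s, s'}) (S := U')
        (Ideal.quotientMap I' (algebraMap A U) (Ideal.map_le_iff_le_comap.1 hmapspan.le))
    haveI : IsScalarTower k (A ⧸ Ideal.span {s, s'}) U' := IsScalarTower.of_algebraMap_eq fun a => by
      show Ideal.Quotient.mk _ (algebraMap k U a) = Ideal.Quotient.mk _ (algebraMap A U (algebraMap k A a))
      exact congrArg _ (IsScalarTower.algebraMap_apply k A U a)
    haveI : IsLocalization (Submonoid.powers (mk (f * c'))) U' := by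
      let g' : U →+* U' := Ideal.Quotient.mk I'
      have hg' : Function.Surjective g' := Ideal.Quotient.mk_surjective
      have hH : g'.comp (algebraMap A U) = (algebraMap (A ⧸ Ideal.span {s, s'}) U').comp mk := by
        refine RingHom.ext fun y => ?_
        simp only [RingHom.comp_apply]
        exact (Ideal.quotientMap_mk (f := algebraMap A U) (J := Ideal.span {s, s'})).symm
      have hK : RingHom.ker g' ≤ (RingHom.ker mk).map (algebraMap A U) := by
        rw [show RingHom.ker g' = _ from Ideal.mk_ker, show RingHom.ker mk = _ from Ideal.mk_ker, hmapspan]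
      have h := IsLocalization.of_surjective (R' := A ⧸ Ideal.span {s, s'}) (S' := U') (Submonoid.powers (f * c')) U mk
        Ideal.Quotient.mk_surjective g' hg' hH hK
      rwa [Submonoid.map_powers] at h
    let e : U' ≃ₐ[A ⧸ Ideal.span {s, s'}] Localization.Away (mk (f * c')) :=
      IsLocalization.algEquiv (Submonoid.powers (mk (f * c'))) _ _
    have hfin : Algebra.IsStandardSmoothOfRelativeDimension n k (Localization.Away (mk (f * c'))) :=
      haveI := hstd
      Algebra.IsStandardSmoothOfRelativeDimension.of_algEquiv (R := k) (S := U') n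
        (T := Localization.Away (mk (f * c'))) (e.restrictScalars k)
    rw [show n + 2 - 2 = n by omega, HasRingHomProperty.Spec_iff (P := @SmoothOfRelativeDimension n)]
    exact RingHom.locally_of RingHom.isStandardSmoothOfRelativeDimension_respectsIso _
      ((RingHom.isStandardSmoothOfRelativeDimension_algebraMap _).2 hfin)

end Groth.Agent.PencilLib
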